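import Cfsg.Agent.H10.Walter.Setting
import Cfsg.Agent.H35.JT.PSL
import Cfsg.Agent.Fusion.Basic

/-!
# Fusion in simple groups with abelian Sylow 2-subgroups, and centres of perfect groups

In a group of the shapes of Walter's theorem a Sylow 2-subgroup is elementary abelian and its normaliser
is transitive on the involutions; a central element of a perfect group lying in a Sylow subgroup lies in
its derived group.
-/

set_option autoImplicit false
set_option linter.unusedSectionVars false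
set_option linter.style.haveILetI false

namespace Cfsg.Agent.H58.CI

open Subgroup

universe u

variable {L : Type u} [Group L] [Finite L]

local instance fact_two' : Fact (Nat.Prime 2) := ⟨Nat.prime_two⟩

theorem one_class_congr {A B : Type*} [Group A] [Group B] (e : A ≃* B)
    (hB : ∀ a b : B, orderOf a = 2 → orderOf b = 2 → IsConj a b) (a b : A) (ha : orderOf a = 2)
    (hb : orderOf b = 2) : IsConj a b := by
  obtain ⟨c, hc⟩ := isConj_iff.1 (hB (e a) (e b) (by rw [MulEquiv.orderOf_eq, ha])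
    (by rw [MulEquiv.orderOf_eq, hb]))
  exact isConj_iff.2 ⟨e.symm c, e.injective (by simpa using hc)⟩

theorem charP_two_of_pow {F : Type*} [Field F] [Fintype F] {n : ℕ} (h : Fintype.card F = 2 ^ n) :
    CharP F 2 := by
  obtain ⟨p, hp⟩ := CharP.exists F
  obtain ⟨m, hm, hc⟩ := FiniteField.card F p
  have hd : p ∣ 2 ^ n := by rw [← h, hc]; exact dvd_pow_self p m.pos.ne'
  rwa [(Nat.prime_dvd_prime_iff_eq hm Nat.prime_two).1 (hm.dvd_of_dvd_pow hd)] at hp

/-- In type R the Sylow 2-subgroups are elementary abelian. -/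
theorem elementary_of_typeR (h : H10.Walter.IsTypeR L) (P : Sylow 2 L)
    (hab : IsMulCommutative ↥(P : Subgroup L)) : ∀ p ∈ (P : Subgroup L), p * p = 1 := by
  obtain ⟨h8, hone, t, E, E₀, ht, ⟨-, -, hcomm, hinf, -⟩, hE₀, -, ⟨F, _, _, h5, hq, ⟨e⟩⟩, -⟩ := h
  -- an involution of `E₀`
  have hodd : Odd (Fintype.card F) := by rw [Nat.odd_iff]; omega
  have heven : 2 ∣ Nat.card ↥E₀ := by
    rw [Nat.card_congr e.toEquiv]
    obtain ⟨T⟩ : Nonempty (Sylow 2 (Matrix.ProjectiveSpecialLinearGroup (Fin 2) F)) := inferInstance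
    refine Dvd.dvd.trans ?_ T.toSubgroup.card_subgroup_dvd_card
    have hT : (T : Subgroup (Matrix.ProjectiveSpecialLinearGroup (Fin 2) F)) ≠ ⊥ := by
      rcases H35.JT.psl_sylow_odd hodd T with ⟨c, hc, h4, -⟩ | ⟨-, h4⟩
      · intro e'
        rw [e', mem_bot] at hc
        rw [hc, orderOf_one] at h4
        exact absurd (Nat.le_of_dvd one_pos h4) (by norm_num)
      · intro e'
        rw [e', Subgroup.card_bot] at h4
        omega
    haveI : Nontrivial ↥(T : Subgroup (Matrix.ProjectiveSpecialLinearGroup (Fin 2) F)) :=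
      nontrivial_iff_ne_bot _ |>.2 hT
    obtain ⟨m, hm, hc⟩ := T.isPGroup'.nontrivial_iff_card.mp inferInstance
    exact hc ▸ dvd_pow_self 2 hm.ne'
  obtain ⟨u, hu⟩ := exists_prime_orderOf_dvd_card' (G := ↥E₀) 2 heven
  have huE : (u : L) ∈ E := hE₀ u.2
  have hu2 : orderOf (u : L) = 2 := by rw [Subgroup.orderOf_coe, hu]
  have hut : (u : L) ≠ t := fun e' => by
    have := hinf.le ⟨mem_zpowers t, e' ▸ huE⟩
    rw [mem_bot] at this
    rw [this, orderOf_one] at ht
    omega
  have htu : t * u = u * t := hcomm t (mem_zpowers t) u huE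
  have hp : IsPGroup 2 ↥(zpowers t ⊔ zpowers (u : L)) := by
    refine (IsPGroup.of_card (n := 1) (by rw [Nat.card_zpowers, ht, pow_one])).to_sup_of_normal_left'
      (IsPGroup.of_card (n := 1) (by rw [Nat.card_zpowers, hu2, pow_one]))
      (zpowers_le.2 (centralizer_le_normalizer _ (mem_centralizer_iff.2 ?_)))
    rintro _ ⟨k, rfl⟩
    exact ((show Commute t u from htu).zpow_left k).eq
  obtain ⟨T, hT⟩ := hp.exists_le_sylow
  obtain ⟨g, hg⟩ := MulAction.exists_smul_eq L T P
  have hP : ∀ x ∈ (T : Subgroup L), g * x * g⁻¹ ∈ (P : Subgroup L) := fun x hx => by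
    rw [← hg]; exact ⟨x, hx, rfl⟩
  have hab' : ∀ x ∈ (P : Subgroup L), ∀ y ∈ (P : Subgroup L), x * y = y * x := fun x hx y hy =>
    congrArg Subtype.val (hab.is_comm.comm ⟨x, hx⟩ ⟨y, hy⟩)
  have h8' : ∀ x ∈ (P : Subgroup L), x ^ 8 = 1 := fun x hx => by
    have := pow_card_eq_one' (x := (⟨x, hx⟩ : ↥(P : Subgroup L)))
    rw [h8 P] at this
    exact congrArg Subtype.val this
  by_contra hne
  push Not at hne
  obtain ⟨a, ha, ha2⟩ := hne
  obtain ⟨a, ha, ha2, ha4⟩ : ∃ a ∈ (P : Subgroup L), a * a ≠ 1 ∧ a * a * (a * a) = 1 := by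
    by_cases h4 : a * a * (a * a) = 1
    · exact ⟨a, ha, ha2, h4⟩
    · refine ⟨a * a, mul_mem ha ha, h4, ?_⟩
      rw [← h8' a ha]
      simp only [pow_succ, pow_zero, one_mul, mul_assoc]
  have hz : orderOf (a * a) = 2 := orderOf_eq_prime (by rw [pow_two]; exact ha4) ha2
  have hord : orderOf (⟨a, ha⟩ : ↥(P : Subgroup L)) = 4 := by
    rw [← Subgroup.orderOf_coe]
    show orderOf a = 2 ^ (1 + 1)
    refine orderOf_eq_prime_pow (by rw [pow_one, pow_two]; exact ha2) ?_
    rw [show (2 : ℕ) ^ (1 + 1) = 2 + 2 by norm_num, pow_add, pow_two]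
    exact ha4
  have hidx : (zpowers (⟨a, ha⟩ : ↥(P : Subgroup L))).index = 2 := by
    have := (zpowers (⟨a, ha⟩ : ↥(P : Subgroup L))).card_mul_index
    rw [Nat.card_zpowers, hord, h8 P] at this
    omega
  -- every involution of `P` is a square, so it is `a²`
  have key : ∀ w ∈ (P : Subgroup L), orderOf w = 2 → w = a * a := by
    intro w hw hw2
    obtain ⟨c, hc⟩ := isConj_iff.1 (hone (a * a) w hz hw2)
    have hle : (P : Subgroup L) ≤ centralizer ((P : Subgroup L) : Set L) :=
      le_centralizer_iff_isMulCommutative.mpr hab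
    obtain ⟨n, hn, hnc⟩ := Fusion.burnside_fusion_centralizer P (hle (mul_mem ha ha))
      (g := c) (hle (hc ▸ hw))
    rw [hc] at hnc
    have hna : n * a * n⁻¹ ∈ (P : Subgroup L) := (mem_normalizer_iff.1 hn a).1 ha
    have hm := mul_self_mem_of_index_two hidx ⟨_, hna⟩
    have hwz : (⟨w, hw⟩ : ↥(P : Subgroup L)) ∈ zpowers (⟨a, ha⟩ : ↥(P : Subgroup L)) := by
      convert hm using 1
      refine Subtype.ext ?_
      show w = n * a * n⁻¹ * (n * a * n⁻¹)
      rw [← hnc]
      group
    obtain ⟨k, hk, hk'⟩ : ∃ k < 4, a ^ k = w := by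
      rw [← mem_powers_iff_mem_zpowers, Submonoid.mem_powers_iff] at hwz
      obtain ⟨k, hk⟩ := hwz
      refine ⟨k % 4, Nat.mod_lt _ (by norm_num), ?_⟩
      have := congrArg Subtype.val ((pow_mod_orderOf (⟨a, ha⟩ : ↥(P : Subgroup L)) k).trans hk)
      rw [hord] at this
      exact this
    have hw1 : w ≠ 1 := fun e' => by rw [e', orderOf_one] at hw2; omega
    have hww : w * w = 1 := by rw [← pow_two, ← hw2, pow_orderOf_eq_one]
    interval_cases k
    · exact absurd (by simpa using hk'.symm) hw1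
    · exact absurd (by rw [pow_one] at hk'; rw [hk', hww]) ha2
    · rw [← hk', pow_two]
    · refine absurd ?_ ha2
      calc a * a = a * a * (a * a * (a * a)) := by rw [ha4, mul_one]
        _ = a ^ 3 * a ^ 3 := by simp only [pow_succ, pow_zero, one_mul, mul_assoc]
        _ = 1 := by rw [hk', hww]
  have h1 := key _ (hP t (hT (mem_sup_left (mem_zpowers t))))
    (((SemiconjBy.conj_mk g t).orderOf_eq g).symm.trans ht)
  have h2 := key _ (hP u (hT (mem_sup_right (mem_zpowers _))))
    (((SemiconjBy.conj_mk g (u : L)).orderOf_eq g).symm.trans hu2)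
  exact hut (mul_left_cancel (mul_right_cancel (h2.trans h1.symm)))

/-- The Sylow 2-subgroups of a group of one of the shapes are elementary abelian. -/
theorem shape_elementary (h : H10.Walter.Shape L) (P : Sylow 2 L)
    (hab : IsMulCommutative ↥(P : Subgroup L)) : ∀ p ∈ (P : Subgroup L), p * p = 1 := by
  rcases h with ⟨F, _, _, n, hn, hc, ⟨e⟩⟩ | ⟨F, _, _, h5, hq, ⟨e⟩⟩ | hR
  · haveI := charP_two_of_pow hc
    have h3 : 3 < Fintype.card F := by
      rw [hc]; exact lt_of_lt_of_le (by norm_num) (Nat.pow_le_pow_right two_pos hn)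
    intro p hp
    apply e.injective
    rw [map_mul, map_one]
    exact (H35.JT.psl_sylow_char_two h3 (P.mapSurjective (f := e.toMonoidHom) e.surjective)).1 _
      ⟨p, hp, rfl⟩
  · have hodd : Odd (Fintype.card F) := by rw [Nat.odd_iff]; omega
    set Q := P.mapSurjective (f := e.toMonoidHom) e.surjective with hQ
    rcases H35.JT.psl_sylow_odd hodd Q with ⟨c, hc, h4, hd, d, hdQ, hdc⟩ | ⟨hsq, -⟩
    · exfalso
      obtain ⟨hdd, hdcd⟩ := (hd d hdQ).resolve_left hdc
      obtain ⟨c', hc', rfl⟩ := hc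
      obtain ⟨d', hd', rfl⟩ := hdQ
      have hcd : e.toMonoidHom c' * e.toMonoidHom d' = e.toMonoidHom d' * e.toMonoidHom c' := by
        rw [← map_mul, ← map_mul, show c' * d' = d' * c' from
          congrArg Subtype.val (hab.is_comm.comm ⟨c', hc'⟩ ⟨d', hd'⟩)]
      rw [mul_assoc, hcd, ← mul_assoc, hdd, one_mul] at hdcd
      have h2 : e.toMonoidHom c' ^ 2 = 1 := by
        rw [pow_two]; exact mul_eq_one_iff_eq_inv.2 hdcd
      exact absurd (Nat.le_of_dvd two_pos (h4.trans (orderOf_dvd_of_pow_eq_one h2))) (by norm_num)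
    · intro p hp
      apply e.injective
      rw [map_mul, map_one]
      exact hsq _ ⟨p, hp, rfl⟩
  · exact elementary_of_typeR hR P hab

theorem shape_one_class (h : H10.Walter.Shape L) (a b : L) (ha : orderOf a = 2) (hb : orderOf b = 2) :
    IsConj a b := by
  rcases h with ⟨F, _, _, n, -, -, ⟨e⟩⟩ | ⟨F, _, _, -, -, ⟨e⟩⟩ | ⟨-, hone, -⟩
  · exact one_class_congr e H35.JT.psl_one_class a b ha hb
  · exact one_class_congr e H35.JT.psl_one_class a b ha hb
  · exact hone a b ha hb

/-- The normaliser of a Sylow 2-subgroup is transitive on its involutions. -/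
theorem shape_transitive (h : H10.Walter.Shape L) (P : Sylow 2 L)
    (hab : IsMulCommutative ↥(P : Subgroup L)) {a b : L} (ha : a ∈ (P : Subgroup L))
    (hb : b ∈ (P : Subgroup L)) (ha1 : a ≠ 1) (hb1 : b ≠ 1) :
    ∃ n ∈ normalizer ((P : Subgroup L) : Set L), n * a * n⁻¹ = b := by
  have hord : ∀ x ∈ (P : Subgroup L), x ≠ 1 → orderOf x = 2 := fun x hx hx1 =>
    orderOf_eq_prime (by rw [pow_two]; exact shape_elementary h P hab x hx) hx1
  obtain ⟨c, hc⟩ := isConj_iff.1 (shape_one_class h a b (hord a ha ha1) (hord b hb hb1))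
  have hle : (P : Subgroup L) ≤ centralizer ((P : Subgroup L) : Set L) :=
    le_centralizer_iff_isMulCommutative.mpr hab
  obtain ⟨n, hn, hnc⟩ := Fusion.burnside_fusion_centralizer P (hle ha) (g := c) (hle (hc ▸ hb))
  exact ⟨n, hn, hnc.trans hc⟩

/-- A central element of a perfect group lying in a Sylow subgroup lies in its derived group. -/
theorem mem_commutator_of_perfect_center {G : Type*} [Group G] [Finite G] [Group.IsPerfect G]
    {p : ℕ} [Fact p.Prime] (P : Sylow p G) {z : G} (hz : z ∈ center G) (hzP : z ∈ (P : Subgroup G)) :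
    z ∈ ⁅(P : Subgroup G), (P : Subgroup G)⁆ := by
  classical
  let A := Abelianization ↥(P : Subgroup G)
  let φ : ↥(P : Subgroup G) →* A := Abelianization.of
  let τ : G →* A := MonoidHom.transfer φ
  have hcz : ∀ (k : ℕ) (g : G), g⁻¹ * z ^ k * g = z ^ k := fun k g => by
    rw [mul_assoc, ← mem_center_iff.mp (pow_mem hz k) g, inv_mul_cancel_left]
  have h0 : τ z = 1 := by
    have : τ.ker = ⊤ := by
      rw [eq_top_iff, ← Group.IsPerfect.commutator_eq_top (G := G)]
      exact Abelianization.commutator_subset_ker τ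
    exact MonoidHom.mem_ker.mp (this ▸ mem_top z)
  have h1 := MonoidHom.transfer_eq_pow φ z fun k g hk => hcz k g
  rw [show MonoidHom.transfer φ z = τ z from rfl, h0] at h1
  have h2 : φ (⟨z, hzP⟩ ^ (P : Subgroup G).index) = 1 := by
    rw [← MonoidHom.map_one φ] at h1
    have : φ (⟨z, hzP⟩ ^ (P : Subgroup G).index) = φ ⟨z ^ (P : Subgroup G).index, pow_mem hzP _⟩ :=
      congrArg φ (Subtype.ext (by rw [Subgroup.coe_pow]))
    rw [this, ← h1, map_one]
  obtain ⟨k, hk⟩ := P.isPGroup' ⟨z, hzP⟩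
  obtain ⟨i, hi⟩ := exists_pow_eq_self_of_coprime (x := (⟨z, hzP⟩ : ↥(P : Subgroup G)))
    (n := (P : Subgroup G).index) (Nat.Coprime.coprime_dvd_right (orderOf_dvd_of_pow_eq_one hk)
      (Nat.Coprime.pow_right k ((Nat.Prime.coprime_iff_not_dvd Fact.out).2 P.not_dvd_index).symm))
  have h3 : (⟨z, hzP⟩ : ↥(P : Subgroup G)) ∈ commutator ↥(P : Subgroup G) := by
    rw [← Abelianization.ker_of, MonoidHom.mem_ker]
    show φ ⟨z, hzP⟩ = 1
    rw [← hi, map_pow, h2, one_pow]
  exact (map_subtype_commutator (P : Subgroup G)) ▸ mem_map_of_mem _ h3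

end Cfsg.Agent.H58.CI
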