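import Cfsg.Agent.H74.SchurPerfect
import Cfsg.Agent.H74.SchurBasic
import Cfsg.Agent.Unitary.AschProperBasic
import Cfsg.Agent.Unitary.Center
import Cfsg.Agent.S2089
import Cfsg.Agent.S2111

/-!
# Perfect central extensions of `Sz(q)`, `q ≥ 32`, and of `PSU₃(2ⁿ)`
-/

set_option autoImplicit false
set_option linter.unusedSectionVars false
set_option linter.style.haveILetI false

namespace Cfsg.Agent.H58.CI

open Subgroup
open scoped commutatorElement

universe u v

/-- A finite group has a copy in `Type`. -/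
theorem exists_copy (L : Type u) [Group L] [Finite L] :
    ∃ (L₀ : Type) (_ : Group L₀) (_ : Finite L₀), Nonempty (L ≃* L₀) := by
  let f := equivShrink.{0} L
  letI : Group (Shrink.{0} L) := f.symm.group
  exact ⟨Shrink.{0} L, inferInstance, Finite.of_equiv L f, ⟨f.symm.mulEquiv.symm⟩⟩

/-- A copy in `Type` of a perfect group with a given central quotient. -/
theorem exists_copy_ext {L : Type u} [Group L] [Finite L] [Group.IsPerfect L] {Q : Type}
    [Group Q] (e : L ⧸ center L ≃* Q) :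
    ∃ (L₀ : Type) (_ : Group L₀) (_ : Finite L₀) (σ : L₀ →* Q), Nonempty (L ≃* L₀) ∧
      Group.IsPerfect L₀ ∧ Function.Surjective σ ∧ σ.ker = center L₀ := by
  obtain ⟨L₀, _, _, ⟨i⟩⟩ := exists_copy L
  refine ⟨L₀, inferInstance, inferInstance, (e.toMonoidHom.comp (QuotientGroup.mk' (center L))).comp
    i.symm.toMonoidHom, ⟨i⟩, Group.IsPerfect.ofSurjective (f := i.toMonoidHom) i.surjective,
    (e.surjective.comp (QuotientGroup.mk'_surjective _)).comp i.symm.surjective, ?_⟩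
  ext x
  simp only [MonoidHom.mem_ker, MonoidHom.comp_apply, MulEquiv.coe_toMonoidHom, map_eq_one_iff e e.injective,
    QuotientGroup.mk'_apply, QuotientGroup.eq_one_iff, mem_center_iff]
  refine ⟨fun h y => i.symm.injective ?_, fun h y => i.injective ?_⟩
  · rw [map_mul, map_mul]; exact h _
  · rw [map_mul, map_mul, MulEquiv.apply_symm_apply]; exact h _

theorem isStem {L₀ Q : Type} [Group L₀] [Group Q] (hp : Group.IsPerfect L₀) {σ : L₀ →* Q}
    (hs : Function.Surjective σ) (hk : σ.ker = center L₀) : Cfsg.IsStemExtension σ :=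
  ⟨hs, hk.le, by rw [H74.Schur.isPerfect_iff.1 hp]; exact le_top⟩

/-- `Sz(q)`, `q ≥ 32`, has no perfect proper central extensions. -/
theorem center_eq_bot_sz {F : Type} [Field F] [Fintype F] {m : ℕ} (hm : 2 ≤ m)
    (hF : Fintype.card F = 2 ^ (2 * m + 1)) {L : Type u} [Group L] [Finite L] [Group.IsPerfect L]
    (e : L ⧸ center L ≃* ↥(Cfsg.Lie.Sz F (2 ^ (m + 1)))) : center L = ⊥ := by
  obtain ⟨L₀, _, _, σ, ⟨i⟩, hp, hs, hk⟩ := exists_copy_ext e
  have h0 := H74.Schur.ker_eq_bot_of_trivial (S2111.result hm hF) (isStem hp hs hk)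
  rw [hk] at h0
  refine eq_bot_iff.2 fun x hx => i.injective ?_
  have hix : i x ∈ center L₀ := mem_center_iff.2 fun y => by
    obtain ⟨y, rfl⟩ := i.surjective y
    rw [← map_mul, ← map_mul, mem_center_iff.1 hx y]
  rw [h0, mem_bot] at hix
  rw [hix, map_one]

/-- A lift between perfect central extensions is onto. -/
theorem lift_surjective {E X Q : Type*} [Group E] [Group X] [Group Q] (hX : Group.IsPerfect X)
    {π : E →* Q} {ξ : X →* Q} (hπ : Function.Surjective π) (hc : ξ.ker ≤ center X) {η : E →* X}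
    (h : ξ.comp η = π) : Function.Surjective η := by
  have hdec : ∀ x : X, ∃ a ∈ η.range, ∃ z ∈ center X, x = a * z := fun x => by
    obtain ⟨y, hy⟩ := hπ (ξ x)
    refine ⟨η y, ⟨y, rfl⟩, (η y)⁻¹ * x, hc ?_, (mul_inv_cancel_left _ _).symm⟩
    rw [MonoidHom.mem_ker, map_mul, map_inv, show ξ (η y) = π y from DFunLike.congr_fun h y, hy,
      inv_mul_cancel]
  have hle : commutator X ≤ η.range := by
    rw [commutator_def, commutator_le]
    intro a _ b _
    obtain ⟨a', ha', z, hz, rfl⟩ := hdec a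
    obtain ⟨b', hb', w, hw, rfl⟩ := hdec b
    rw [show ⁅a' * z, b' * w⁆ = ⁅a', b'⁆ by
      have hzc := fun y => mem_center_iff.1 hz y
      have hwc := fun y => mem_center_iff.1 hw y
      calc ⁅a' * z, b' * w⁆ = a' * (z * b') * (w * z⁻¹) * a'⁻¹ * w⁻¹ * b'⁻¹ := by
            rw [commutatorElement_def]; group
        _ = a' * (b' * z) * (z⁻¹ * w) * a'⁻¹ * w⁻¹ * b'⁻¹ := by rw [← hzc b', ← hwc z⁻¹]
        _ = a' * b' * (w * a'⁻¹) * w⁻¹ * b'⁻¹ := by group
        _ = a' * b' * (a'⁻¹ * w) * w⁻¹ * b'⁻¹ := by rw [← hwc a'⁻¹]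
        _ = ⁅a', b'⁆ := by rw [commutatorElement_def]; group]
    exact mul_mem (mul_mem (mul_mem ha' hb') (inv_mem ha')) (inv_mem hb')
  intro x
  exact hle (H74.Schur.isPerfect_iff.1 hX ▸ mem_top x)

/-- A perfect central extension of `PSU₃(2ⁿ)` is `PSU₃(2ⁿ)` or `SU₃(2ⁿ)`, with centre of odd order. -/
theorem psu_cover {F : Type} [Field F] [Fintype F] {n : ℕ} (hn : 2 ≤ n)
    (hF : Fintype.card F = 4 ^ n) {L : Type u} [Group L] [Finite L] [Group.IsPerfect L]
    (e : L ⧸ center L ≃* Cfsg.PSU 3 F (2 ^ n)) :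
    Odd (Nat.card ↥(center L)) ∧
      (Nonempty (L ≃* Cfsg.PSU 3 F (2 ^ n)) ∨ Nonempty (L ≃* ↥(Cfsg.SU 3 F (2 ^ n)))) := by
  have hF' : Fintype.card F = (2 ^ n) ^ 2 := by
    rw [hF, show (4 : ℕ) = 2 ^ 2 by norm_num, ← pow_mul, ← pow_mul, mul_comm]
  have h4 : 4 ≤ 2 ^ n := le_trans (by norm_num) (Nat.pow_le_pow_right two_pos hn)
  have hmult := S2089.result (F := F) 3 (2 ^ n) hF' le_rfl (fun h => by omega) (by
    simp only [Set.mem_insert_iff, Set.mem_singleton_iff, Prod.mk.injEq]; omega)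
  have hSU : Group.IsPerfect ↥(Cfsg.SU 3 F (2 ^ n)) :=
    H74.Schur.isPerfect_iff.2 (Unitary.commutator_eq_top hF' (Or.inr ⟨rfl, by omega⟩))
  let p := QuotientGroup.mk' (center ↥(Cfsg.SU 3 F (2 ^ n)))
  have hp : Function.Surjective p := QuotientGroup.mk'_surjective _
  have hpk : p.ker = center ↥(Cfsg.SU 3 F (2 ^ n)) := QuotientGroup.ker_mk' _
  have hPSU : Group.IsPerfect (Cfsg.PSU 3 F (2 ^ n)) := Group.IsPerfect.ofSurjective (f := p) hp
  haveI : Finite (Cfsg.PSU 3 F (2 ^ n)) := Finite.of_surjective p hp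
  obtain ⟨E, _, _, π, hEp, hπ, hπc, hstem, huniv⟩ := H74.Schur.exists_universal.{0, 0} hPSU
  obtain ⟨L₀, _, _, σ, ⟨i⟩, hL₀, hσ, hσk⟩ := exists_copy_ext e
  obtain ⟨η, hη, -⟩ := huniv L₀ σ hσ hσk.le
  obtain ⟨θ, hθ, -⟩ := huniv _ p hp hpk.le
  have hηs := lift_surjective hL₀ hπ hσk.le hη
  have hθs := lift_surjective hSU hπ hpk.le hθ
  have hE3 : Nat.card π.ker ∣ Nat.gcd 3 (2 ^ n + 1) := by
    obtain ⟨f, hf⟩ := H74.Schur.exists_surjective_ker hmult hstem
    have := Subgroup.card_dvd_of_surjective f hf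
    rwa [Nat.card_congr Multiplicative.toAdd, Nat.card_zmod] at this
  have hgcd : Nat.gcd 3 (2 ^ n + 1) = 1 ∨ Nat.gcd 3 (2 ^ n + 1) = 3 :=
    (Nat.dvd_prime (by norm_num)).1 (Nat.gcd_dvd_left _ _)
  have hcardE : Nat.card E = Nat.card π.ker * Nat.card (Cfsg.PSU 3 F (2 ^ n)) := by
    rw [Subgroup.card_eq_card_quotient_mul_card_subgroup π.ker, mul_comm,
      Nat.card_congr (QuotientGroup.quotientKerEquivOfSurjective π hπ).toEquiv]
  have hcardL : Nat.card L₀ = Nat.card ↥(center L₀) * Nat.card (Cfsg.PSU 3 F (2 ^ n)) := by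
    rw [Subgroup.card_eq_card_quotient_mul_card_subgroup σ.ker, mul_comm,
      Nat.card_congr (QuotientGroup.quotientKerEquivOfSurjective σ hσ).toEquiv, hσk]
  have hdvd : Nat.card ↥(center L₀) ∣ Nat.card π.ker := by
    have := Subgroup.card_dvd_of_surjective η hηs
    rw [hcardE, hcardL] at this
    exact Nat.dvd_of_mul_dvd_mul_right Nat.card_pos this
  have hcen : Nat.card ↥(center L) = Nat.card ↥(center L₀) := Nat.card_congr
    (i.toEquiv.subtypeEquiv fun x => ⟨fun hx => mem_center_iff.2 fun y => by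
      obtain ⟨y, rfl⟩ := i.surjective y
      show i y * i x = i x * i y
      rw [← map_mul, ← map_mul, mem_center_iff.1 hx y],
      fun hx => mem_center_iff.2 fun y => i.injective (by
        rw [map_mul, map_mul]; exact mem_center_iff.1 hx (i y))⟩)
  have hdvd3 : Nat.card ↥(center L₀) ∣ 3 := hdvd.trans (hE3.trans (Nat.gcd_dvd_left _ _))
  refine ⟨hcen ▸ Odd.of_dvd_nat ⟨1, rfl⟩ hdvd3, ?_⟩
  rcases (Nat.dvd_prime (by norm_num : Nat.Prime 3)).1 hdvd3 with h1 | h3
  · left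
    have hb : σ.ker = ⊥ := by rw [hσk]; exact Subgroup.card_eq_one.1 h1
    exact ⟨i.trans (MulEquiv.ofBijective σ ⟨(σ.ker_eq_bot_iff).1 hb, hσ⟩)⟩
  · right
    have hker3 : Nat.card π.ker = 3 :=
      Nat.dvd_antisymm (hE3.trans (Nat.gcd_dvd_left _ _)) (by rwa [h3] at hdvd)
    have hgcd3 : Nat.gcd 3 (2 ^ n + 1) = 3 :=
      Nat.dvd_antisymm (Nat.gcd_dvd_left _ _) (by rwa [hker3] at hE3)
    have hcardS : Nat.card ↥(Cfsg.SU 3 F (2 ^ n)) = 3 * Nat.card (Cfsg.PSU 3 F (2 ^ n)) := by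
      rw [Subgroup.card_eq_card_quotient_mul_card_subgroup (center ↥(Cfsg.SU 3 F (2 ^ n))),
        Unitary.card_center_SU hF' (by norm_num), hgcd3, mul_comm]
    have hηb : Function.Bijective η :=
      (Nat.bijective_iff_surjective_and_card η).2 ⟨hηs, by rw [hcardE, hcardL, hker3, h3]⟩
    have hθb : Function.Bijective θ :=
      (Nat.bijective_iff_surjective_and_card θ).2 ⟨hθs, by rw [hcardE, hcardS, hker3]⟩
    exact ⟨i.trans ((MulEquiv.ofBijective η hηb).symm.trans (MulEquiv.ofBijective θ hθb))⟩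

end Cfsg.Agent.H58.CI
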