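import Cfsg.Agent.H10.Walter.Assembly
import Cfsg.Agent.H50.Walter.ShapeData
import Cfsg.Agent.H77.Walter.CoresThree
import Cfsg.Agent.H91.CI.Global
import Cfsg.Agent.H1.Asch.Cover
import Cfsg.Agent.H1.Asch.RedRows
import Cfsg.Agent.H73.Asch.CoreMain
import Cfsg.Agent.S0483

/-!
# The inputs of the rows on central intersections, discharged
-/

set_option autoImplicit false

namespace Cfsg.Agent.H58.CI

universe u

/-- The classification of simple groups with abelian Sylow 2-subgroups, weak form. -/
theorem walterHyp : H10.Walter.WalterHyp.{u} :=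
  H10.Walter.walter_of_data (fun X _ _ _ S hS => Cfsg.Agent.S0483.result S 2 le_rfl hS)
    H50.Walter.shapeData (H77.Walter.coresStepThree H50.Walter.shapeData)

/-- The criterion for strongly closed subgroups. -/
theorem embCriterion : H91.CI.EmbCriterion.{u} := fun X _ _ hs S T h1 h2 h3 =>
  haveI := hs
  H1.Asch.Red.row1174 H73.Asch.coreHolds H1.Asch.Red.cover S T h1 h2 h3

end Cfsg.Agent.H58.CI
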