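import Cfsg.Agent.H91.CI.Basic
import Cfsg.Agent.Components.Layer
import Cfsg.Agent.Components.PLocal
import Cfsg.Agent.Components.PComponent
import Cfsg.Agent.Components.CyclicSylow
import Cfsg.Agent.Cores.PCore
import Cfsg.Agent.S4593
import Cfsg.Agent.S0542
import Cfsg.Agent.S0205

/-!
# Central Sylow 2-intersections, trivial odd core

With non-normal Sylow 2-subgroups `O₂` is central in each of them. A component that is not the only one
meets every Sylow 2-subgroup centrally, and if all components do, the Sylow 2-subgroups are abelian.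
-/

set_option autoImplicit false
set_option linter.unusedSectionVars false
set_option linter.style.haveILetI false

namespace Cfsg.Agent.H58.CI

open Subgroup
open H91.CI (CentralInter conj_mem_sylow_iff)
open scoped Pointwise

variable {X : Type*} [Group X] [Finite X]

local instance fact_two : Fact (Nat.Prime 2) := ⟨Nat.prime_two⟩

/-- The part of a Sylow 2-subgroup in a component is a Sylow 2-subgroup of it. -/
theorem sylow_in_component {L : Subgroup X} (hL : Cfsg.IsComponent L) (T : Sylow 2 X) :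
    ∃ P : Sylow 2 ↥L, ((T : Subgroup X).subgroupOf L : Subgroup ↥L) = P :=
  (Cfsg.Agent.S0542.result 2 L hL.1 T).imp fun _ e => e.symm

/-- Elements of `T ⊓ L` are central in `T`. -/
def CentralAt (L : Subgroup X) (T : Sylow 2 X) : Prop :=
  ∀ x ∈ (T : Subgroup X), x ∈ L → ∀ s ∈ (T : Subgroup X), s * x = x * s

theorem exists_ne_sylow {S : Sylow 2 X} (hn : ¬ (S : Subgroup X).Normal) :
    ∃ T : Sylow 2 X, S ≠ T := by
  by_contra hc
  push Not at hc
  refine hn (normalizer_eq_top_iff.1 (eq_top_iff.2 fun g _ => ?_))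
  exact Sylow.smul_eq_iff_mem_normalizer.mp (hc (g • S)).symm

/-- `O₂` is central in a Sylow 2-subgroup that is not normal. -/
theorem pCore_central (h : CentralInter X) {S : Sylow 2 X} (hn : ¬ (S : Subgroup X).Normal)
    {x : X} (hx : x ∈ Cfsg.pCore 2 X) {s : X} (hs : s ∈ (S : Subgroup X)) : s * x = x * s := by
  obtain ⟨T, hT⟩ := exists_ne_sylow hn
  exact h S T hT x (Cores.pCore_le_sylow S hx) (Cores.pCore_le_sylow T hx) s hs

/-- Some component exists. -/
theorem exists_component (h : CentralInter X) (hO : Cfsg.oddCore X = ⊥) {S : Sylow 2 X}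
    (hn : ¬ (S : Subgroup X).Normal) : ∃ L : Subgroup X, Cfsg.IsComponent L := by
  by_contra hc
  push Not at hc
  have hE : Cfsg.layer X = ⊥ := Components.layer_eq_bot_iff.mpr hc
  have hF : Cfsg.generalizedFittingSubgroup X ≤ Cfsg.pCore 2 X := by
    rw [Components.genFitting_eq_sup, hE, bot_sup_eq]
    exact Components.fitting_le_pCore hO
  have hS : (S : Subgroup X) ≤ Cfsg.pCore 2 X := by
    intro s hs
    exact hF (Components.centralizer_genFitting_le (mem_centralizer_iff.2 fun x hx =>
      (pCore_central h hn (hF hx) hs).symm))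
  exact hn (le_antisymm (Cores.pCore_le_sylow S) hS ▸ inferInstance)

/-- A component does not normalise a Sylow 2-subgroup. -/
theorem exists_not_normalizer (_hO : Cfsg.oddCore X = ⊥) {L : Subgroup X} (hL : Cfsg.IsComponent L)
    (T : Sylow 2 X) : ∃ g ∈ L, g ∉ normalizer ((T : Subgroup X) : Set X) := by
  by_contra hc
  push Not at hc
  obtain ⟨P, hP⟩ := sylow_in_component hL T
  haveI : (P : Subgroup ↥L).Normal := by
    refine ⟨fun x hx g => ?_⟩
    rw [← hP, mem_subgroupOf] at hx ⊢
    simpa using (mem_normalizer_iff.1 (hc g g.2) x).1 hx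
  haveI : Group.IsSolvable (↥L ⧸ (P : Subgroup ↥L)) := Cfsg.Agent.S0205.result (by
    rw [← Subgroup.index_eq_card]
    exact Nat.odd_iff.2 (Nat.two_dvd_ne_zero.1 P.not_dvd_index))
  haveI : Group.IsNilpotent ↥(P : Subgroup ↥L) := P.isPGroup'.isNilpotent
  exact Components.qs_not_isSolvable hL.2 (Group.isSolvable_of_ker_le_range
    (P : Subgroup ↥L).subtype (QuotientGroup.mk' (P : Subgroup ↥L))
    (by rw [QuotientGroup.ker_mk', range_subtype]))

/-- A component other than `L₀` meets every Sylow 2-subgroup centrally. -/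
theorem centralAt_of_other (h : CentralInter X) (hO : Cfsg.oddCore X = ⊥) {L₀ L : Subgroup X}
    (hL₀ : Cfsg.IsComponent L₀) (hL : Cfsg.IsComponent L) (hne : L₀ ≠ L) (T : Sylow 2 X) :
    CentralAt L T := by
  intro x hxT hxL s hs
  obtain ⟨g, hg, hgN⟩ := exists_not_normalizer hO hL₀ T
  refine h T (g • T) (fun e => hgN (Sylow.smul_eq_iff_mem_normalizer.mp e.symm)) x hxT ?_ s hs
  have hgx : g * x * g⁻¹ = x := by
    rw [← mem_centralizer_iff.1 (commutator_eq_bot_iff_le_centralizer.1
      (Components.components_commute hL₀ hL hne) hg) x hxL, mul_inv_cancel_right]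
  exact hgx ▸ conj_mem_sylow_iff.mpr hxT

/-- A component meeting a Sylow 2-subgroup in an abelian group is simple. -/
theorem simple_of_abelian (hO : Cfsg.oddCore X = ⊥) {L : Subgroup X} (hL : Cfsg.IsComponent L)
    (P : Sylow 2 ↥L) [IsMulCommutative ↥(P : Subgroup ↥L)] :
    IsSimpleGroup ↥L ∧ center ↥L = ⊥ := by
  haveI : Group.IsPerfect ↥L := hL.2.1
  have hodd : Odd (Nat.card ↥(center ↥L)) := by
    by_contra he
    obtain ⟨z, hz⟩ := exists_prime_orderOf_dvd_card' (G := ↥(center ↥L)) 2
      (Nat.not_odd_iff_even.1 he).two_dvd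
    have h1 : (z : ↥L) = 1 := Components.eq_one_of_perfect_center P z.2
      (by rw [← Subgroup.coe_pow, ← hz, pow_orderOf_eq_one, Subgroup.coe_one])
    rw [show z = 1 from Subtype.ext h1, orderOf_one] at hz
    omega
  have hz : center ↥L = ⊥ := le_bot_iff.1
    ((Components.pPrimeCore_component (p := 2) hO hL) ▸ Cores.le_oddCore (N := center ↥L) hodd)
  refine ⟨?_, hz⟩
  haveI : Nontrivial ↥L := Components.qs_nontrivial hL.2
  refine ⟨fun N hN => ?_⟩
  rcases Components.qs_subnormal hL.2 hN.isSubnormal with e | e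
  · exact Or.inr e
  · exact Or.inl (le_bot_iff.1 (hz ▸ e))

theorem CentralAt.abelian {L : Subgroup X} {T : Sylow 2 X} (hc : CentralAt L T) {P : Sylow 2 ↥L}
    (hP : ((T : Subgroup X).subgroupOf L : Subgroup ↥L) = P) :
    IsMulCommutative ↥(P : Subgroup ↥L) := by
  refine ⟨⟨fun a b => Subtype.ext (Subtype.ext ?_)⟩⟩
  have ha := a.2
  have hb := b.2
  simp only [← hP, mem_subgroupOf] at ha hb
  exact hc _ hb b.1.2 _ ha

/-- A Sylow 2-subgroup meeting a component centrally normalises it. -/
theorem le_normalizer_of_central (hO : Cfsg.oddCore X = ⊥) {L : Subgroup X}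
    (hL : Cfsg.IsComponent L) {T : Sylow 2 X} (hc : CentralAt L T) :
    (T : Subgroup X) ≤ normalizer (L : Set X) := by
  intro s hs
  obtain ⟨P, hP⟩ := sylow_in_component hL T
  haveI := hc.abelian hP
  have hne : (P : Subgroup ↥L) ≠ ⊥ :=
    P.ne_bot_of_dvd_card (Components.dvd_card_component (p := 2) hO hL)
  obtain ⟨x, hx, hx1⟩ := (P : Subgroup ↥L).bot_or_exists_ne_one.resolve_left hne
  rw [← hP, mem_subgroupOf] at hx
  set L' := L.map (MulAut.conj s).toMonoidHom with hL'def
  have hL' : Cfsg.IsComponent L' := Components.component_conj hL s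
  have hxL' : (x : X) ∈ L' := ⟨x, x.2, by
    show s * (x : X) * s⁻¹ = x
    rw [hc x hx x.2 s hs, mul_inv_cancel_right]⟩
  by_cases e : L' = L
  · exact Components.mem_normalizer_of_map_conj_eq e
  · exfalso
    have hz := commutator_eq_bot_iff_le_centralizer.1 (Components.components_commute hL' hL e) hxL'
    have hzc : x ∈ center ↥L := mem_center_iff.2 fun y =>
      Subtype.ext (mem_centralizer_iff.1 hz y y.2)
    rw [(simple_of_abelian hO hL P).2, mem_bot] at hzc
    exact hx1 hzc

/-- A Sylow 2-subgroup meeting a component centrally acts on it by inner automorphisms. -/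
theorem exists_inner (hO : Cfsg.oddCore X = ⊥) {L : Subgroup X} (hL : Cfsg.IsComponent L)
    {T : Sylow 2 X} (hc : CentralAt L T) {s : X} (hs : s ∈ (T : Subgroup X)) :
    ∃ g ∈ (T : Subgroup X) ⊓ L, s * g⁻¹ ∈ centralizer (L : Set X) := by
  have hsN := le_normalizer_of_central hO hL hc hs
  obtain ⟨P, hP⟩ := sylow_in_component hL T
  haveI hab := hc.abelian hP
  have hcen : center ↥L = ⊥ := (simple_of_abelian hO hL P).2
  let α : MulAut ↥L := MulEquiv.mk'
    { toFun := fun x => ⟨s * x * s⁻¹, (mem_normalizer_iff.1 hsN x).1 x.2⟩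
      invFun := fun x => ⟨s⁻¹ * x * s, (mem_normalizer_iff''.1 hsN x).1 x.2⟩
      left_inv := fun x => Subtype.ext (by simp [mul_assoc])
      right_inv := fun x => Subtype.ext (by simp [mul_assoc]) }
    (fun a b => Subtype.ext (by simp [mul_assoc]))
  have hpow : ∀ (n : ℕ) (x : ↥L), (((α ^ n) x : ↥L) : X) = s ^ n * x * (s ^ n)⁻¹ := by
    intro n
    induction n with
    | zero => intro x; simp
    | succ n ih =>
      intro x
      rw [pow_succ', MulAut.mul_apply]
      show s * (((α ^ n) x : ↥L) : X) * s⁻¹ = _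
      rw [ih, pow_succ']
      simp [mul_assoc]
  obtain ⟨k, hk⟩ := T.isPGroup' ⟨s, hs⟩
  have hk' : s ^ 2 ^ k = 1 := by simpa using congrArg Subtype.val hk
  have hαk : α ^ 2 ^ k = 1 := MulEquiv.ext fun x => Subtype.ext (by rw [hpow, hk']; simp)
  obtain ⟨j, -, hj⟩ := (Nat.dvd_prime_pow Nat.prime_two).1 (orderOf_dvd_of_pow_eq_one hαk)
  have hfix : ∀ x : ↥L, x ∈ (P : Subgroup ↥L) → α x = x := fun x hx => Subtype.ext (by
    rw [← hP, mem_subgroupOf] at hx
    show s * (x : X) * s⁻¹ = x
    rw [hc x hx x.2 s hs, mul_inv_cancel_right])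
  obtain ⟨g, hg⟩ := Cfsg.Agent.S4593.result hcen (Components.pPrimeCore_component (p := 2) hO hL)
    P hab α ⟨j, hj⟩ hfix
  have hgT : (g : X) ∈ (T : Subgroup X) := by
    have hgk : g ^ 2 ^ k = 1 := by
      have h1 : MulAut.conj (g ^ 2 ^ k) = 1 := by rw [map_pow, ← show α = MulAut.conj g from MulEquiv.ext hg, hαk]
      have : g ^ 2 ^ k ∈ center ↥L := mem_center_iff.2 fun y => by
        have h2 : g ^ 2 ^ k * y * (g ^ 2 ^ k)⁻¹ = y := DFunLike.congr_fun h1 y
        exact (mul_inv_eq_iff_eq_mul.1 h2).symm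
      rwa [hcen, mem_bot] at this
    have hgP : g ∈ (P : Subgroup ↥L) := by
      refine H91.CI.mem_of_mem_normalizer P (R := zpowers g) ?_ ?_ (mem_zpowers g)
      · exact IsPGroup.iff_card.2 <| by
          rw [Nat.card_zpowers]
          obtain ⟨i, -, hi⟩ := (Nat.dvd_prime_pow Nat.prime_two).1 (orderOf_dvd_of_pow_eq_one hgk)
          exact ⟨i, hi⟩
      · refine zpowers_le.2 (centralizer_le_normalizer _ (mem_centralizer_iff.2 fun x hx => ?_))
        have := (hg x).symm.trans (hfix x hx)
        exact (mul_inv_eq_iff_eq_mul.1 this).symm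
    rw [← hP, mem_subgroupOf] at hgP
    exact hgP
  refine ⟨g, ⟨hgT, g.2⟩, mem_centralizer_iff.2 fun y hy => ?_⟩
  have hy' : (g : X)⁻¹ * y * g ∈ L := mul_mem (mul_mem (inv_mem g.2) hy) g.2
  have hg' : s * ((g : X)⁻¹ * y * g) * s⁻¹ = y := by
    have := congrArg Subtype.val (hg ⟨_, hy'⟩)
    refine this.trans ?_
    show (g : X) * ((g : X)⁻¹ * y * g) * (g : X)⁻¹ = y
    group
  calc y * (s * (g : X)⁻¹) = s * ((g : X)⁻¹ * y * g) * s⁻¹ * (s * (g : X)⁻¹) := by rw [hg']
    _ = s * (g : X)⁻¹ * y := by group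

/-- If every component meets a Sylow 2-subgroup centrally, that Sylow 2-subgroup is abelian. -/
theorem sylow_comm_of_central (h : CentralInter X) (hO : Cfsg.oddCore X = ⊥) {S : Sylow 2 X}
    (hn : ¬ (S : Subgroup X).Normal)
    (hc : ∀ L : Subgroup X, Cfsg.IsComponent L → CentralAt L S) :
    IsMulCommutative ↥(S : Subgroup X) := by
  classical
  suffices key : ∀ s ∈ (S : Subgroup X), ∀ t ∈ (S : Subgroup X), t * s = s * t from
    ⟨⟨fun a b => Subtype.ext (key b b.2 a a.2)⟩⟩
  intro s hs
  -- correct `s` component by component by central elements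
  have step : ∀ Ls : Finset (Subgroup X), (∀ L ∈ Ls, Cfsg.IsComponent L) →
      ∃ g ∈ (S : Subgroup X), (∀ t ∈ (S : Subgroup X), t * g = g * t) ∧
        (∀ L, Cfsg.IsComponent L → L ∉ Ls → g ∈ centralizer (L : Set X)) ∧
        ∀ L ∈ Ls, s * g ∈ centralizer (L : Set X) := by
    intro Ls
    induction Ls using Finset.induction_on with
    | empty => exact fun _ => ⟨1, one_mem _, by simp, fun _ _ _ => one_mem _, by simp⟩
    | @insert L Ls hni ih =>
      intro hall
      obtain ⟨g, hgS, hgc, hgout, hg⟩ := ih fun L' hL' => hall L' (Finset.mem_insert_of_mem hL')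
      have hL := hall L (Finset.mem_insert_self _ _)
      obtain ⟨a, ⟨haS, haL⟩, hsa⟩ := exists_inner hO hL (hc L hL) hs
      have hac := hc L hL a haS haL
      have hother : ∀ L', Cfsg.IsComponent L' → L ≠ L' → a⁻¹ ∈ centralizer (L' : Set X) :=
        fun L' hL' hne => inv_mem (commutator_eq_bot_iff_le_centralizer.1
          (Components.components_commute hL hL' hne) haL)
      refine ⟨g * a⁻¹, mul_mem hgS (inv_mem haS), fun t ht => ?_, fun L' hL' hL'n => ?_,
        fun L' hL' => ?_⟩
      · exact ((show Commute t g from hgc t ht).mul_right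
          (show Commute t a from hac t ht).inv_right).eq
      · rw [Finset.mem_insert, not_or] at hL'n
        exact mul_mem (hgout L' hL' hL'n.2) (hother L' hL' (Ne.symm hL'n.1))
      · rcases Finset.mem_insert.1 hL' with rfl | hL''
        · rw [← (show Commute a⁻¹ g from (hgc _ (inv_mem haS))).eq, ← mul_assoc]
          exact mul_mem hsa (hgout L' hL hni)
        · rw [← mul_assoc]
          exact mul_mem (hg L' hL'') (hother L' (hall L' hL') fun e => hni (e ▸ hL''))
  obtain ⟨Ls, hLs⟩ : ∃ Ls : Finset (Subgroup X), ∀ L, L ∈ Ls ↔ Cfsg.IsComponent L :=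
    ⟨(Set.toFinite {L : Subgroup X | Cfsg.IsComponent L}).toFinset, fun L => by simp⟩
  obtain ⟨g, hgS, hgc, -, hg⟩ := step Ls fun L hL => (hLs L).1 hL
  have hsg : Cfsg.generalizedFittingSubgroup X ≤ centralizer ({s * g} : Set X) := by
    rw [Components.genFitting_eq_sup]
    refine sup_le (sSup_le fun L hL => fun x hx => mem_centralizer_singleton_iff.2
      (mem_centralizer_iff.1 (hg L ((hLs L).2 hL)) x hx)) fun f hf => mem_centralizer_singleton_iff.2 ?_
    exact (pCore_central h hn (Components.fitting_le_pCore hO hf) (mul_mem hs hgS)).symm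
  -- `s g` lies in the centre of `F*`, so in `O₂`
  have hsgF : s * g ∈ Cfsg.generalizedFittingSubgroup X := Components.centralizer_genFitting_le
    (mem_centralizer_iff.2 fun x hx => mem_centralizer_singleton_iff.1 (hsg hx))
  set Z := (center ↥(Cfsg.generalizedFittingSubgroup X)).map
    (Cfsg.generalizedFittingSubgroup X).subtype with hZ
  haveI : Z.Normal := inferInstance
  have hsgZ : s * g ∈ Z := ⟨⟨_, hsgF⟩, mem_center_iff.2 fun x => Subtype.ext
    (mem_centralizer_singleton_iff.1 (hsg x.2)), rfl⟩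
  haveI : IsMulCommutative ↥Z := inferInstance
  have hZR : Z ≤ Cfsg.pCore 2 X := by
    have hnil : Group.IsNilpotent ↥Z :=
      ⟨1, Subgroup.upperCentralSeries_one (G := ↥Z) ▸ eq_top_iff.2 fun x _ =>
        mem_center_iff.2 fun y => mul_comm' y x⟩
    exact (Cores.le_fittingSubgroup hnil).trans (Components.fitting_le_pCore hO)
  intro t ht
  have hcomm : Commute t (s * g * g⁻¹) :=
    (show Commute t (s * g) from pCore_central h hn (hZR hsgZ) ht).mul_right
      (show Commute t g from hgc t ht).inv_right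
  simpa [Commute, SemiconjBy, mul_assoc] using hcomm

/-- If a Sylow 2-subgroup is non-abelian, exactly one component exists, it is normal, and the Sylow
2-subgroup does not meet it centrally. -/
theorem unique_component (h : CentralInter X) (hO : Cfsg.oddCore X = ⊥) {S : Sylow 2 X}
    (hn : ¬ (S : Subgroup X).Normal) (hS : ¬ IsMulCommutative ↥(S : Subgroup X)) :
    ∃ K : Subgroup X, Cfsg.IsComponent K ∧ K.Normal ∧ ¬ CentralAt K S ∧
      ∀ L : Subgroup X, Cfsg.IsComponent L → L = K := by
  obtain ⟨K, hK, hKc⟩ : ∃ K, Cfsg.IsComponent K ∧ ¬ CentralAt K S := by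
    by_contra hc
    push Not at hc
    exact hS (sylow_comm_of_central h hO hn hc)
  have huniq : ∀ L : Subgroup X, Cfsg.IsComponent L → L = K := fun L hL =>
    by_contra fun e => hKc (centralAt_of_other h hO hL hK e S)
  refine ⟨K, hK, ⟨fun x hx g => ?_⟩, hKc, huniq⟩
  have := huniq _ (Components.component_conj hK g)
  rw [← this]
  exact ⟨x, hx, rfl⟩

end Cfsg.Agent.H58.CI
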