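import Cfsg.Agent.H58.CI.Main
import Cfsg.Agent.H91.CI.Main

/-!
# The structure theorem from the inputs of the simple case
-/

set_option autoImplicit false
set_option linter.unusedSectionVars false

namespace Cfsg.Agent.H58.CI

open Subgroup

universe u

/-- The simple case as a hypothesis, from its classification. -/
theorem simpleHyp (hWal : H10.Walter.WalterHyp.{u}) (hd : H88.Walter.ShapeData.{u})
    (h1174 : H91.CI.EmbCriterion.{u}) : SimpleHyp.{u} := by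
  intro G _ _ hs hna hCI
  haveI := hs
  rcases H91.CI.simple_central_intersections hWal hd h1174 hna hCI with
    ⟨F, _, _, hq, ⟨e⟩⟩ | ⟨hab, -⟩ | hSz | hU
  · exact Or.inl fun P => psl_absyl hq e P
  · exact Or.inl hab
  · exact Or.inr (Or.inl hSz)
  · exact Or.inr (Or.inr hU)

/-- The structure theorem from the classification with abelian Sylow 2-subgroups and the criterion for
strongly closed subgroups. -/
theorem structure_of_inputs (hWal : H10.Walter.WalterHyp.{u}) (hd : H88.Walter.ShapeData.{u})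
    (h1174 : H91.CI.EmbCriterion.{u}) {G : Type u} [Group G] [Finite G]
    (hCI : ∀ S T : Sylow 2 G, S ≠ T → ∃ U : Sylow 2 G,
      (S : Subgroup G) ⊓ (T : Subgroup G) ≤ (Subgroup.center ↥(U : Subgroup G)).map (U : Subgroup G).subtype) :
    (Group.IsSolvable G ∧ Cfsg.PLengthLE 2 1 G) ∨
    (∀ S : Sylow 2 G, IsMulCommutative ↥(S : Subgroup G)) ∨
    (∃ (N M : Subgroup G) (_ : N.Normal) (_ : M.Normal) (_ : (N.subgroupOf M).Normal), N < M ∧ Odd (Nat.card ↥N) ∧ Odd M.index ∧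
      ∃ A L : Subgroup (↥M ⧸ N.subgroupOf M), IsMulCommutative ↥A ∧ IsPGroup 2 ↥A ∧
        Nonempty (↥L ≃* Matrix.SpecialLinearGroup (Fin 2) (ZMod 5)) ∧ (∀ a ∈ A, ∀ l ∈ L, a * l = l * a) ∧ A ⊔ L = ⊤) ∨
    (∃ (M : Subgroup G), M.Normal ∧ Odd M.index ∧ ∃ A L : Subgroup G, IsMulCommutative ↥A ∧ IsPGroup 2 ↥A ∧
      ((Cfsg.IsInternalDirectProduct A L M ∧
          ((∃ (m : ℕ) (F : Type) (_ : Field F) (_ : Fintype F), 1 ≤ m ∧ Fintype.card F = 2 ^ (2 * m + 1) ∧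
              Nonempty (↥L ≃* ↥(Cfsg.Lie.Sz F (2 ^ (m + 1))))) ∨
            (∃ (n : ℕ) (F : Type) (_ : Field F) (_ : Fintype F), 2 ≤ n ∧ Fintype.card F = 4 ^ n ∧
              (Nonempty (↥L ≃* Cfsg.PSU 3 F (2 ^ n)) ∨ Nonempty (↥L ≃* ↥(Cfsg.SU 3 F (2 ^ n))))))) ∨
        (A ≤ M ∧ L ≤ M ∧ (∀ a ∈ A, ∀ l ∈ L, a * l = l * a) ∧ A ⊔ L = M ∧ Group.IsPerfect ↥L ∧
          Subgroup.center ↥L ≠ ⊥ ∧
          ∃ (F : Type) (_ : Field F) (_ : Fintype F), Fintype.card F = 8 ∧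
            Nonempty (↥L ⧸ Subgroup.center ↥L ≃* ↥(Cfsg.Lie.Sz F 4))))) :=
  structure_theorem (simpleHyp hWal hd h1174) hWal hCI

end Cfsg.Agent.H58.CI
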