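import Cfsg.Prelude.Def_Classical
import Cfsg.Agent.H91.CI.Basic
import Cfsg.Agent.H10.Walter.Setting
import Cfsg.Agent.H35.JT.PSL
import Cfsg.Agent.H27.QuaternionSylow

/-!
# The simple case as a hypothesis

`SimpleHyp`: a simple non-abelian group with central Sylow 2-intersections has abelian Sylow 2-subgroups
or is `Sz(q)` or `PSU₃(2ⁿ)`.
-/

set_option autoImplicit false
set_option linter.unusedSectionVars false

namespace Cfsg.Agent.H58.CI

open Subgroup

universe u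

/-- `G` is `Sz(q)` or `PSU₃(2ⁿ)`. -/
def IsSzOrU (G : Type*) [Group G] : Prop :=
  (∃ (m : ℕ) (F : Type) (_ : Field F) (_ : Fintype F), 1 ≤ m ∧ Fintype.card F = 2 ^ (2 * m + 1) ∧
    Nonempty (G ≃* ↥(Cfsg.Lie.Sz F (2 ^ (m + 1))))) ∨
  (∃ (n : ℕ) (F : Type) (_ : Field F) (_ : Fintype F), 2 ≤ n ∧ Fintype.card F = 4 ^ n ∧
    Nonempty (G ≃* Cfsg.PSU 3 F (2 ^ n)))

/-- The simple case. -/
def SimpleHyp : Prop :=
  ∀ (G : Type u) [Group G] [Finite G], IsSimpleGroup G → ¬ IsMulCommutative G →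
    (∀ S T : Sylow 2 G, S ≠ T → ∃ U : Sylow 2 G, (S : Subgroup G) ⊓ (T : Subgroup G) ≤
      (Subgroup.center ↥(U : Subgroup G)).map (U : Subgroup G).subtype) →
    (∀ P : Sylow 2 G, IsMulCommutative ↥(P : Subgroup G)) ∨ IsSzOrU G

variable {F : Type} [Field F] [Fintype F]

/-- `PSL₂(q)`, `q ≡ 0, 3, 5 (mod 8)`, has abelian Sylow 2-subgroups. -/
theorem psl_absyl (hq : Fintype.card F % 8 = 0 ∨ Fintype.card F % 8 = 3 ∨ Fintype.card F % 8 = 5)
    {G : Type*} [Group G] [Finite G]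
    (e : G ≃* Matrix.ProjectiveSpecialLinearGroup (Fin 2) F) (P : Sylow 2 G) :
    IsMulCommutative ↥(P : Subgroup G) := by
  have hF2 : Fact (Nat.Prime 2) := ⟨Nat.prime_two⟩
  set Q := P.mapSurjective (f := e.toMonoidHom) e.surjective with hQdef
  suffices hQ : ∀ x ∈ (Q : Subgroup (Matrix.ProjectiveSpecialLinearGroup (Fin 2) F)),
      ∀ y ∈ (Q : Subgroup (Matrix.ProjectiveSpecialLinearGroup (Fin 2) F)), x * y = y * x from
    ⟨⟨fun a b => Subtype.ext (e.injective (by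
      rw [Subgroup.coe_mul, Subgroup.coe_mul, map_mul, map_mul]
      exact hQ _ ⟨a, a.2, rfl⟩ _ ⟨b, b.2, rfl⟩))⟩⟩
  rcases hq with h | h
  · have hc2 : ringChar F = 2 := by
      obtain ⟨n, hp, hn⟩ := FiniteField.card F (ringChar F)
      exact ((Nat.prime_dvd_prime_iff_eq Nat.prime_two hp).1 (Nat.prime_two.dvd_of_dvd_pow (n := n)
        (by rw [← hn]; exact Nat.dvd_trans (by norm_num) (Nat.dvd_of_mod_eq_zero h)))).symm
    have := ringChar.of_eq hc2
    obtain ⟨hsq, -, -⟩ := H35.JT.psl_sylow_char_two (by have := Fintype.card_pos (α := F); omega) Q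
    intro x hx y hy
    have hxy := inv_eq_of_mul_eq_one_right (hsq _ (mul_mem hx hy))
    rw [mul_inv_rev, inv_eq_of_mul_eq_one_right (hsq _ hx),
      inv_eq_of_mul_eq_one_right (hsq _ hy)] at hxy
    exact hxy.symm
  · have hK := H27.QuaternionSylow.sylow_psl_klein (F := F) rfl h Q
    intro x hx y hy
    exact congrArg Subtype.val (mul_comm_of_exponent_two hK.exponent_two ⟨x, hx⟩ ⟨y, hy⟩)

end Cfsg.Agent.H58.CI
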