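import Cfsg.Agent.H91.CI.Key

/-!
# Odd subgroups normalised by a Sylow 2-subgroup with non-cyclic derived group

The argument of `H91.CI.le_centralizer_of_odd`, for arbitrary groups with central Sylow 2-intersections
in which the commutators of `S` do not lie in one cyclic subgroup.
-/

set_option autoImplicit false
set_option linter.style.haveILetI false
set_option linter.unusedSectionVars false

namespace Cfsg.Agent.H58.CI

open Subgroup
open Cfsg.Agent.H91.CI (involution_unique centralizer_le_normalizer_sylow)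
open scoped Pointwise

variable {G : Type*} [Group G] [Finite G] (h : H91.CI.CentralInter G)
include h

/-- An odd subgroup normalised by a non-abelian Sylow 2-subgroup is centralised by it. -/
theorem le_centralizer_of_odd {S : Sylow 2 G} (hS : ¬ IsMulCommutative ↥(S : Subgroup G))
    (hcyc : ∀ c ∈ (S : Subgroup G), ¬ ∀ x ∈ (S : Subgroup G), ∀ y ∈ (S : Subgroup G),
      x * y * x⁻¹ * y⁻¹ ∈ zpowers c) :
    ∀ O : Subgroup G, Odd (Nat.card O) → (S : Subgroup G) ≤ normalizer (O : Set G) →
      O ≤ centralizer ((S : Subgroup G) : Set G) := by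
  haveI : Fact (Nat.Prime 2) := ⟨Nat.prime_two⟩
  intro V
  induction V using WellFoundedLT.induction with
  | ind V ih =>
  intro hodd hSV
  by_contra hne
  have hSp : IsPGroup 2 ↥(S : Subgroup G) := S.isPGroup'
  -- fixed points of a non-central element
  have hnc : ∀ x ∈ (S : Subgroup G), (∃ s ∈ (S : Subgroup G), s * x ≠ x * s) →
      V ⊓ centralizer {x} ≤ centralizer ((S : Subgroup G) : Set G) := by
    rintro x hx ⟨s₀, hs₀, hs₀x⟩ o ⟨hoV, hox⟩
    have hoN := centralizer_le_normalizer_sylow h hx hs₀ hs₀x hox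
    refine mem_centralizer_iff.mpr fun s hs => ?_
    have h1 : s * o * s⁻¹ * o⁻¹ ∈ V := mul_mem ((mem_normalizer_iff.mp (hSV hs) o).mp hoV) (inv_mem hoV)
    have h2 : s * o * s⁻¹ * o⁻¹ ∈ (S : Subgroup G) := by
      have := (mem_normalizer_iff.mp hoN s⁻¹).mp (inv_mem hs)
      rw [show s * o * s⁻¹ * o⁻¹ = s * (o * s⁻¹ * o⁻¹) by group]
      exact mul_mem hs this
    obtain ⟨n, hn⟩ := IsPGroup.iff_card.mp hSp
    have hcop : (Nat.card ↥(S : Subgroup G)).Coprime (Nat.card V) := by
      rw [hn]
      exact Nat.Coprime.pow_left n ((Nat.prime_two.coprime_iff_not_dvd).mpr hodd.not_two_dvd_nat)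
    have := mem_bot.mp ((inf_eq_bot_of_coprime hcop) ▸ mem_inf.mpr ⟨h2, h1⟩)
    rw [mul_inv_eq_one, mul_inv_eq_iff_eq_mul] at this
    exact this
  -- every element not centralising `V` has its fixed points in `C(S)`
  have hfix : ∀ s ∈ (S : Subgroup G), s ∉ centralizer (V : Set G) →
      V ⊓ centralizer {s} ≤ centralizer ((S : Subgroup G) : Set G) := by
    intro s hs hsV
    by_cases hc : ∀ t ∈ (S : Subgroup G), t * s = s * t
    · have hlt : V ⊓ centralizer {s} < V := by
        refine lt_of_le_of_ne inf_le_left fun e => hsV (mem_centralizer_iff.mpr fun v hv => ?_)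
        exact mem_centralizer_singleton_iff.mp (inf_eq_left.mp e hv)
      refine ih _ hlt (Odd.of_dvd_nat hodd (card_dvd_of_le inf_le_left)) ?_
      refine (le_inf hSV fun t ht => ?_).trans inf_normalizer_le_normalizer_inf
      refine mem_normalizer_iff.mpr fun y => ?_
      simp only [mem_centralizer_singleton_iff]
      have hts : t * s * t⁻¹ = s := by rw [hc t ht, mul_inv_cancel_right]
      constructor
      · intro hy
        calc t * y * t⁻¹ * s = t * y * t⁻¹ * (t * s * t⁻¹) := by rw [hts]
          _ = t * (y * s) * t⁻¹ := by group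
          _ = t * (s * y) * t⁻¹ := by rw [hy]
          _ = t * s * t⁻¹ * (t * y * t⁻¹) := by group
          _ = s * (t * y * t⁻¹) := by rw [hts]
      · intro hy
        have : t * (y * s) * t⁻¹ = t * (s * y) * t⁻¹ := by
          calc t * (y * s) * t⁻¹ = t * y * t⁻¹ * (t * s * t⁻¹) := by group
            _ = t * y * t⁻¹ * s := by rw [hts]
            _ = s * (t * y * t⁻¹) := hy
            _ = t * s * t⁻¹ * (t * y * t⁻¹) := by rw [hts]
            _ = t * (s * y) * t⁻¹ := by group
        exact mul_left_cancel (mul_right_cancel this)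
    · push Not at hc
      exact hnc s hs hc
  -- the action of `S` on `V`
  let φ : ↥(S : Subgroup G) →* MulAut V := V.normalizerMonoidHom.comp (inclusion hSV)
  have hφ : ∀ (s : ↥(S : Subgroup G)) (v : V), ((φ s) v : G) = s * v * (s : G)⁻¹ := fun s v => rfl
  have hker : ∀ s : ↥(S : Subgroup G), φ s = 1 → (s : G) ∈ centralizer (V : Set G) := by
    intro s hs
    refine mem_centralizer_iff.mpr fun v hv => ?_
    have := hφ s ⟨v, hv⟩
    rw [hs] at this
    exact eq_mul_inv_iff_mul_eq.mp this
  have hkerZ : φ.ker ≤ center ↥(S : Subgroup G) := by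
    intro k hk
    refine mem_center_iff.mpr fun t => Subtype.ext ?_
    by_contra hne'
    refine hne fun v hv => ?_
    exact hnc k k.2 ⟨t, t.2, hne'⟩ ⟨hv, mem_centralizer_singleton_iff.mpr
      (mem_centralizer_iff.mp (hker k (MonoidHom.mem_ker.mp hk)) v hv)⟩
  set W : Subgroup V := (centralizer ((S : Subgroup G) : Set G)).subgroupOf V with hW
  have hWtop : W ≠ ⊤ := fun e => hne (subgroupOf_eq_top.mp e)
  haveI : Finite (MulAut V) := Finite.of_injective _ MulEquiv.toEquiv_injective
  have hAp : IsPGroup 2 φ.range := hSp.of_surjective φ.rangeRestrict φ.rangeRestrict_surjective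
  have huniq : ∀ σ τ : φ.range, orderOf σ = 2 → orderOf τ = 2 → Commute σ τ → σ = τ := by
    intro σ τ hσ hτ hc
    have h2 : ∀ α : φ.range, orderOf α = 2 → (α : MulAut V) * α = 1 ∧ (α : MulAut V) ≠ 1 := by
      intro α hα
      refine ⟨?_, fun e => ?_⟩
      · have := hα ▸ pow_orderOf_eq_one α
        rw [pow_two] at this
        exact congrArg Subtype.val this
      · rw [show α = 1 from Subtype.ext e, orderOf_one] at hα
        exact absurd hα (by norm_num)
    refine Subtype.ext (involution_unique φ.range hAp hodd W hWtop ?_ σ.2 τ.2 (h2 σ hσ).1 (h2 τ hτ).1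
      (h2 σ hσ).2 (h2 τ hτ).2 (congrArg Subtype.val hc.eq))
    rintro _ ⟨s, rfl⟩ hs v hv
    refine hfix s s.2 (fun hsC => hs ?_) ⟨v.2, mem_centralizer_singleton_iff.mpr ?_⟩
    · refine MulEquiv.ext fun w => Subtype.ext ?_
      rw [hφ]
      show (s : G) * w * (s : G)⁻¹ = w
      rw [← mem_centralizer_iff.mp hsC w w.2, mul_inv_cancel_right]
    · have := congrArg Subtype.val hv
      rw [hφ] at this
      exact (mul_inv_eq_iff_eq_mul.mp this).symm
  by_cases hcomm : IsMulCommutative φ.range
  · -- cyclic image, so `S` is abelian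
    have hcyc : IsCyclic φ.range := by
      by_contra hnc'
      obtain ⟨p, hp, x, y, hx, hy, hx1, hyx⟩ := Coprime.exists_pair_of_not_isCyclic hnc'
      haveI : Fact p.Prime := ⟨hp⟩
      have hox : orderOf x = p := orderOf_eq_prime hx hx1
      have hy1 : y ≠ 1 := fun e => hyx (e ▸ one_mem _)
      have hoy : orderOf y = p := orderOf_eq_prime hy hy1
      obtain ⟨j, hj⟩ := IsPGroup.iff_orderOf.mp hAp x
      have hp2 : p = 2 := by
        rw [hox] at hj
        have hdvd : p ∣ 2 ^ j := by rw [← hj]
        exact (Nat.prime_dvd_prime_iff_eq hp Nat.prime_two).mp (hp.dvd_of_dvd_pow hdvd)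
      subst hp2
      exact hyx (huniq x y hox hoy (hcomm.is_comm.comm x y) ▸ mem_zpowers x)
    refine hS ⟨⟨fun a b => ?_⟩⟩
    exact commutative_of_cyclic_center_quotient φ.rangeRestrict
      (fun k hk => hkerZ (by rwa [MonoidHom.ker_rangeRestrict] at hk)) a b
  · have hex : ∃! x : φ.range, orderOf x = 2 := by
      haveI : Nontrivial φ.range := not_subsingleton_iff_nontrivial.mp fun hs => hcomm ⟨⟨fun a b => Subsingleton.elim _ _⟩⟩
      obtain ⟨n, hn, hcard⟩ := hAp.nontrivial_iff_card.mp inferInstance
      obtain ⟨z, hzc, hz⟩ : ∃ z ∈ center φ.range, orderOf z = 2 := by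
        haveI := hAp.center_nontrivial
        obtain ⟨m, hm, hcm⟩ := (hAp.to_subgroup (center φ.range)).nontrivial_iff_card.mp inferInstance
        obtain ⟨z, hz⟩ := exists_prime_orderOf_dvd_card' (G := center φ.range) 2 (hcm ▸ dvd_pow_self 2 hm.ne')
        exact ⟨z, z.2, by rw [Subgroup.orderOf_coe, hz]⟩
      exact ⟨z, hz, fun y hy => huniq y z hy hz ((mem_center_iff.mp hzc y))⟩
    obtain ⟨k, a, b, -, -, -, hba, -, hall⟩ := H64.exists_quaternion_gens hAp hcomm hex
    obtain ⟨A', hA'⟩ := φ.rangeRestrict_surjective a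
    obtain ⟨B', hB'⟩ := φ.rangeRestrict_surjective b
    have hcen : ∀ k, φ.rangeRestrict k = 1 → ∀ t, t * k = k * t := fun k hk t =>
      mem_center_iff.mp (hkerZ (by rw [← MonoidHom.ker_rangeRestrict, MonoidHom.mem_ker, hk])) t
    set c : ↥(S : Subgroup G) := B' * A' * B'⁻¹ * A'⁻¹ with hc
    set k₀ : ↥(S : Subgroup G) := A' * A' * c with hk₀
    have hk₀1 : φ.rangeRestrict k₀ = 1 := by
      simp only [hk₀, hc, map_mul, map_inv, hA', hB', hba]
      group
    have hcA : A' * c = c * A' := by
      have e : c = (A' * A')⁻¹ * k₀ := by rw [hk₀]; group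
      have := hcen k₀ hk₀1 A'
      rw [e]
      calc A' * ((A' * A')⁻¹ * k₀) = (A' * A')⁻¹ * (A' * k₀) := by group
        _ = (A' * A')⁻¹ * (k₀ * A') := by rw [this]
        _ = (A' * A')⁻¹ * k₀ * A' := by group
    have hBA : B' * A' * B'⁻¹ = c * A' := by rw [hc]; group
    have hBc : B' * c * B'⁻¹ = c⁻¹ := by
      have e : c = (A' * A')⁻¹ * k₀ := by rw [hk₀]; group
      have hBk : B' * k₀ * B'⁻¹ = k₀ := by rw [hcen k₀ hk₀1 B', mul_inv_cancel_right]
      calc B' * c * B'⁻¹ = B' * ((A' * A')⁻¹ * k₀) * B'⁻¹ := by rw [← e]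
        _ = ((B' * A' * B'⁻¹) * (B' * A' * B'⁻¹))⁻¹ * (B' * k₀ * B'⁻¹) := by group
        _ = ((c * A') * (c * A'))⁻¹ * k₀ := by rw [hBA, hBk]
        _ = ((A' * A') * (c * c))⁻¹ * k₀ := by
            rw [show c * A' * (c * A') = A' * A' * (c * c) by
              calc c * A' * (c * A') = c * (A' * c) * A' := by group
                _ = c * (c * A') * A' := by rw [hcA]
                _ = c * c * (A' * A') := by group
                _ = A' * A' * (c * c) := by
                  have h1 : Commute A' c := hcA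
                  exact ((h1.mul_left h1).mul_right (h1.mul_left h1)).eq.symm]
        _ = (c * c)⁻¹ * ((A' * A')⁻¹ * k₀) := by group
        _ = (c * c)⁻¹ * c := by rw [← e]
        _ = c⁻¹ := by group
    haveI hN : (zpowers c).Normal := by
      refine ⟨fun x hx t => ?_⟩
      have hle : (⊤ : Subgroup ↥(S : Subgroup G)) ≤ normalizer ((zpowers c : Subgroup _) : Set _) := by
        intro t _
        obtain ⟨i, hi⟩ := hall (φ.rangeRestrict t)
        have hgen : ∀ u, u * c * u⁻¹ = c ∨ u * c * u⁻¹ = c⁻¹ →
            u ∈ normalizer ((zpowers c : Subgroup _) : Set _) := by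
          intro u hu
          rw [mem_normalizer_iff_map_conj_eq, MonoidHom.map_zpowers]
          rcases hu with hu | hu
          · exact congrArg zpowers hu
          · exact (congrArg zpowers hu).trans (zpowers_inv)
        have hAn : A' ^ i ∈ normalizer ((zpowers c : Subgroup _) : Set _) :=
          pow_mem (hgen A' (Or.inl (by rw [hcA, mul_inv_cancel_right]))) i
        have hBn : B' ∈ normalizer ((zpowers c : Subgroup _) : Set _) := hgen B' (Or.inr hBc)
        rcases hi with hi | hi
        · obtain ⟨k, hk, rfl⟩ : ∃ k, φ.rangeRestrict k = 1 ∧ A' ^ i * k = t :=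
            ⟨(A' ^ i)⁻¹ * t, by rw [map_mul, map_inv, map_pow, hA', hi, inv_mul_cancel], mul_inv_cancel_left _ _⟩
          exact mul_mem hAn (hgen k (Or.inl (by rw [← hcen k hk c, mul_inv_cancel_right])))
        · obtain ⟨k, hk, rfl⟩ : ∃ k, φ.rangeRestrict k = 1 ∧ B' * A' ^ i * k = t :=
            ⟨(B' * A' ^ i)⁻¹ * t, by rw [map_mul, map_inv, map_mul, map_pow, hA', hB', hi, inv_mul_cancel],
              mul_inv_cancel_left _ _⟩
          exact mul_mem (mul_mem hBn hAn) (hgen k (Or.inl (by rw [← hcen k hk c, mul_inv_cancel_right])))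
      exact (mem_normalizer_iff.mp (hle (mem_top t)) x).mp hx
    let π := QuotientGroup.mk' (zpowers c)
    have hπAB : π B' * π A' = π A' * π B' := by
      have h1 : π c = 1 := (QuotientGroup.eq_one_iff c).mpr (mem_zpowers c)
      have h2 : B' * A' = c * (A' * B') := by rw [hc]; group
      rw [← map_mul, h2, map_mul, h1, one_mul, map_mul]
    have hπ : ∀ s t, π s * π t = π t * π s := by
      have hgen : ∀ t, Commute (π A') (π t) ∧ Commute (π B') (π t) := by
        intro t
        obtain ⟨i, hi | hi⟩ := hall (φ.rangeRestrict t)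
        · obtain ⟨k, hk, rfl⟩ : ∃ k, φ.rangeRestrict k = 1 ∧ A' ^ i * k = t :=
            ⟨(A' ^ i)⁻¹ * t, by rw [map_mul, map_inv, map_pow, hA', hi, inv_mul_cancel], mul_inv_cancel_left _ _⟩
          simp only [map_mul, map_pow]
          exact ⟨((Commute.refl _).pow_right i).mul_right ((show Commute A' k from hcen k hk A').map π),
            ((show Commute (π B') (π A') from hπAB).pow_right i).mul_right
              ((show Commute B' k from hcen k hk B').map π)⟩
        · obtain ⟨k, hk, rfl⟩ : ∃ k, φ.rangeRestrict k = 1 ∧ B' * A' ^ i * k = t :=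
            ⟨(B' * A' ^ i)⁻¹ * t, by rw [map_mul, map_inv, map_mul, map_pow, hA', hB', hi, inv_mul_cancel],
              mul_inv_cancel_left _ _⟩
          simp only [map_mul, map_pow]
          exact ⟨((show Commute (π A') (π B') from hπAB.symm).mul_right ((Commute.refl _).pow_right i)).mul_right
              ((show Commute A' k from hcen k hk A').map π),
            ((Commute.refl _).mul_right ((show Commute (π B') (π A') from hπAB).pow_right i)).mul_right
              ((show Commute B' k from hcen k hk B').map π)⟩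
      intro s t
      obtain ⟨i, hi | hi⟩ := hall (φ.rangeRestrict s)
      · obtain ⟨k, hk, rfl⟩ : ∃ k, φ.rangeRestrict k = 1 ∧ A' ^ i * k = s :=
          ⟨(A' ^ i)⁻¹ * s, by rw [map_mul, map_inv, map_pow, hA', hi, inv_mul_cancel], mul_inv_cancel_left _ _⟩
        simp only [map_mul, map_pow]
        exact (((hgen t).1.pow_left i).mul_left ((show Commute k t from (hcen k hk t).symm).map π)).eq
      · obtain ⟨k, hk, rfl⟩ : ∃ k, φ.rangeRestrict k = 1 ∧ B' * A' ^ i * k = s :=
          ⟨(B' * A' ^ i)⁻¹ * s, by rw [map_mul, map_inv, map_mul, map_pow, hA', hB', hi, inv_mul_cancel],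
            mul_inv_cancel_left _ _⟩
        simp only [map_mul, map_pow]
        exact (((hgen t).2.mul_left ((hgen t).1.pow_left i)).mul_left
          ((show Commute k t from (hcen k hk t).symm).map π)).eq
    have hder : ∀ s t : ↥(S : Subgroup G), s * t * s⁻¹ * t⁻¹ ∈ zpowers c := by
      intro s t
      refine (QuotientGroup.eq_one_iff (N := zpowers c) _).mp ?_
      show π (s * t * s⁻¹ * t⁻¹) = 1
      rw [map_mul, map_mul, map_mul, map_inv, map_inv, hπ s t]
      group
    have hmapz : ∀ u ∈ zpowers c, (u : G) ∈ zpowers (c : G) := fun u hu => by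
      obtain ⟨i, rfl⟩ := mem_zpowers_iff.mp hu
      exact ⟨i, (SubgroupClass.coe_zpow c i).symm⟩
    exact hcyc c c.2 fun x hx y hy => hmapz _ (hder ⟨x, hx⟩ ⟨y, hy⟩)

end Cfsg.Agent.H58.CI
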