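import Cfsg.Agent.Linear.Order
import Cfsg.Agent.S0809
import Mathlib

/-!
# Two commuting-centraliser facts about `SL₂`

The centraliser of a non-central element is commutative; the normaliser of a subgroup of order 4 is large.
-/

set_option autoImplicit false
set_option linter.unusedSectionVars false

namespace Cfsg.Agent.H58.CI

open Matrix

variable {F : Type*} [Field F] [Fintype F]

local notation "SL2" => SpecialLinearGroup (Fin 2) F

/-- The centraliser of a non-central element of `SL₂` is commutative. -/
theorem sl_two_comm {g x y : SL2} (hx : g * x = x * g) (hy : g * y = y * g)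
    (hne : x * y ≠ y * x) : g ∈ Subgroup.center SL2 := by
  have entry : ∀ {a b : SL2}, a * b = b * a → ∀ i j,
      ((a : Matrix (Fin 2) (Fin 2) F) * b) i j = ((b : Matrix (Fin 2) (Fin 2) F) * a) i j :=
    fun h i j => congrArg (fun Z : SL2 => (Z : Matrix (Fin 2) (Fin 2) F) i j) h
  have hx00 := entry hx 0 0
  have hx01 := entry hx 0 1
  have hx10 := entry hx 1 0
  have hy00 := entry hy 0 0
  have hy01 := entry hy 0 1
  have hy10 := entry hy 1 0
  simp only [Matrix.mul_apply, Fin.sum_univ_two] at hx00 hx01 hx10 hy00 hy01 hy10
  set a := (g : Matrix (Fin 2) (Fin 2) F) 0 0 with ha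
  set b := (g : Matrix (Fin 2) (Fin 2) F) 0 1 with hb
  set c := (g : Matrix (Fin 2) (Fin 2) F) 1 0 with hc
  set d := (g : Matrix (Fin 2) (Fin 2) F) 1 1 with hd
  by_cases h0 : b = 0 ∧ c = 0 ∧ a = d
  · obtain ⟨hb0, hc0, had⟩ := h0
    refine Subgroup.mem_center_iff.2 fun w => ?_
    refine Subtype.ext ?_
    ext i j
    show ((w : Matrix (Fin 2) (Fin 2) F) * g) i j = ((g : Matrix (Fin 2) (Fin 2) F) * w) i j
    simp only [Matrix.mul_apply, Fin.sum_univ_two]
    fin_cases i <;> fin_cases j <;>
      simp only [Fin.zero_eta, Fin.mk_one, Fin.isValue, ← ha, ← hb, ← hc, ← hd, hb0, hc0, had] <;> ring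
  · refine absurd ?_ hne
    refine Subtype.ext ?_
    ext i j
    show ((x : Matrix (Fin 2) (Fin 2) F) * y) i j = ((y : Matrix (Fin 2) (Fin 2) F) * x) i j
    simp only [Matrix.mul_apply, Fin.sum_univ_two]
    set p := (x : Matrix (Fin 2) (Fin 2) F) 0 0
    set q := (x : Matrix (Fin 2) (Fin 2) F) 0 1
    set r := (x : Matrix (Fin 2) (Fin 2) F) 1 0
    set s := (x : Matrix (Fin 2) (Fin 2) F) 1 1
    set p' := (y : Matrix (Fin 2) (Fin 2) F) 0 0
    set q' := (y : Matrix (Fin 2) (Fin 2) F) 0 1
    set r' := (y : Matrix (Fin 2) (Fin 2) F) 1 0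
    set s' := (y : Matrix (Fin 2) (Fin 2) F) 1 1
    -- the vectors `(q, r, p - s)` and `(q', r', p' - s')` are proportional to `(b, c, a - d)`
    have h1 : q * r' = r * q' := by
      by_cases hb0 : b = 0
      · by_cases hc0 : c = 0
        · have had : a - d ≠ 0 := fun e => h0 ⟨hb0, hc0, sub_eq_zero.1 e⟩
          have hq : q = 0 := by
            refine (mul_eq_zero.1 (show (a - d) * q = 0 from ?_)).resolve_left had
            rw [hb0] at hx01; linear_combination hx01
          have hr : r = 0 := by
            refine (mul_eq_zero.1 (show (a - d) * r = 0 from ?_)).resolve_left had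
            rw [hc0] at hx10; linear_combination -hx10
          rw [hq, hr]; ring
        · refine mul_left_cancel₀ hc0 ?_
          linear_combination -r' * hx00 + r * hy00
      · refine mul_left_cancel₀ hb0 ?_
        linear_combination q * hy00 - q' * hx00
    have h2 : q * (p' - s') = (p - s) * q' := by
      by_cases hb0 : b = 0
      · by_cases hc0 : c = 0
        · have had : a - d ≠ 0 := fun e => h0 ⟨hb0, hc0, sub_eq_zero.1 e⟩
          have hq : q = 0 := by
            refine (mul_eq_zero.1 (show (a - d) * q = 0 from ?_)).resolve_left had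
            rw [hb0] at hx01; linear_combination hx01
          have hq' : q' = 0 := by
            refine (mul_eq_zero.1 (show (a - d) * q' = 0 from ?_)).resolve_left had
            rw [hb0] at hy01; linear_combination hy01
          rw [hq, hq']; ring
        · have hq : q = 0 := by
            refine (mul_eq_zero.1 (show c * q = 0 from ?_)).resolve_left hc0
            rw [hb0] at hx00; linear_combination -hx00
          have hq' : q' = 0 := by
            refine (mul_eq_zero.1 (show c * q' = 0 from ?_)).resolve_left hc0
            rw [hb0] at hy00; linear_combination -hy00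
          rw [hq, hq']; ring
      · refine mul_left_cancel₀ hb0 ?_
        linear_combination q' * hx01 - q * hy01
    have h3 : r * (p' - s') = (p - s) * r' := by
      by_cases hc0 : c = 0
      · by_cases hb0 : b = 0
        · have had : a - d ≠ 0 := fun e => h0 ⟨hb0, hc0, sub_eq_zero.1 e⟩
          have hr : r = 0 := by
            refine (mul_eq_zero.1 (show (a - d) * r = 0 from ?_)).resolve_left had
            rw [hc0] at hx10; linear_combination -hx10
          have hr' : r' = 0 := by
            refine (mul_eq_zero.1 (show (a - d) * r' = 0 from ?_)).resolve_left had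
            rw [hc0] at hy10; linear_combination -hy10
          rw [hr, hr']; ring
        · have hr : r = 0 := by
            refine (mul_eq_zero.1 (show b * r = 0 from ?_)).resolve_left hb0
            rw [hc0] at hx00; linear_combination hx00
          have hr' : r' = 0 := by
            refine (mul_eq_zero.1 (show b * r' = 0 from ?_)).resolve_left hb0
            rw [hc0] at hy00; linear_combination hy00
          rw [hr, hr']; ring
      · refine mul_left_cancel₀ hc0 ?_
        linear_combination r * hy10 - r' * hx10
    fin_cases i <;> fin_cases j <;> simp only [Fin.zero_eta, Fin.mk_one, Fin.isValue]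
    · linear_combination h1
    · linear_combination -h2
    · linear_combination h3
    · linear_combination -h1

/-- The normaliser of a subgroup of order 4 of `SL₂(q)` has at most 8 elements only for `q ≤ 5`. -/
theorem card_le_five_of_normalizer (hodd : Odd (Fintype.card F)) (A : Subgroup SL2)
    (hA : Nat.card ↥A = 4) (h8 : Nat.card ↥(Subgroup.normalizer (A : Set SL2)) ≤ 8) :
    Fintype.card F ≤ 5 := by
  obtain ⟨-, h1, h3, -⟩ := S0809.result (F := F) rfl hodd A hA
  have := Nat.odd_iff.1 hodd
  rcases (show Fintype.card F % 4 = 1 ∨ Fintype.card F % 4 = 3 by omega) with h | h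
  · rw [h1 h] at h8; omega
  · rw [h3 h] at h8; omega

/-- `SL₂` over a field with five elements. -/
theorem sl_two_five_equiv (h : Fintype.card F = 5) :
    Nonempty (SL2 ≃* SpecialLinearGroup (Fin 2) (ZMod 5)) := by
  have : Fact (Nat.Prime 5) := ⟨by norm_num⟩
  obtain ⟨σ⟩ : Nonempty (F ≃+* ZMod 5) :=
    ⟨(ZMod.ringEquivOfPrime F (by norm_num) h).symm⟩
  exact ⟨MulEquiv.mk'
    { toFun := SpecialLinearGroup.map σ.toRingHom
      invFun := SpecialLinearGroup.map σ.symm.toRingHom
      left_inv := fun Z => by ext i j; simp
      right_inv := fun Z => by ext i j; simp }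
    (fun Z W => (SpecialLinearGroup.map σ.toRingHom).map_mul Z W)⟩

end Cfsg.Agent.H58.CI
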