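import Cfsg.Agent.H91.CI.Basic
import Cfsg.Agent.H58.CI.Fusion
import Cfsg.Agent.H58.CI.SLTwo
import Cfsg.Agent.H80.GW.RankOne
import Cfsg.Agent.H86.PrimeGraph.PSLTwoEven
import Cfsg.Agent.Components.Basic
import Cfsg.Agent.S0252
import Cfsg.Agent.S0253

/-!
# Quasisimple groups with central intersections whose Sylow 2-subgroups are abelian modulo the centre

Such a group with 2-group centre and non-abelian Sylow 2-subgroups is `SL₂(5)`, and a Sylow 2-subgroup is
transitive by conjugation on the others.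
-/

set_option autoImplicit false
set_option linter.unusedSectionVars false
set_option linter.style.haveILetI false
set_option linter.unusedSimpArgs false

namespace Cfsg.Agent.H58.CI

open Subgroup
open scoped Pointwise

universe u

variable {K : Type u} [Group K] [Finite K]

local instance fact_two'' : Fact (Nat.Prime 2) := ⟨Nat.prime_two⟩

/-- Each Sylow 2-subgroup is transitive on the others. -/
def TransOthers (G : Type*) [Group G] : Prop :=
  ∀ P P' P'' : Sylow 2 G, P' ≠ P → P'' ≠ P → ∃ y ∈ (P : Subgroup G), y • P' = P''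

theorem center_le_sylow (hZ : IsPGroup 2 ↥(center K)) (P : Sylow 2 K) :
    center K ≤ (P : Subgroup K) :=
  H91.CI.mem_of_mem_normalizer P hZ
    ((center_le_centralizer _).trans (centralizer_le_normalizer _))

/-- `K` is `SL₂(5)`. -/
theorem sl_two_five_of_abelian_quot (hW : H10.Walter.WalterHyp.{u})
    (h : H91.CI.CentralInter K) (hqs : Cfsg.IsQuasisimple K) (hZ : IsPGroup 2 ↥(center K))
    (P : Sylow 2 K) (hna : ¬ IsMulCommutative ↥(P : Subgroup K))
    (hab : ∀ x ∈ (P : Subgroup K), ∀ y ∈ (P : Subgroup K), x * y * x⁻¹ * y⁻¹ ∈ center K) :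
    Nonempty (K ≃* Matrix.SpecialLinearGroup (Fin 2) (ZMod 5)) ∧ TransOthers K := by
  classical
  haveI : Group.IsPerfect K := hqs.1
  haveI : IsSimpleGroup (K ⧸ center K) := hqs.2
  set π := QuotientGroup.mk' (center K) with hπ
  have hπs : Function.Surjective π := QuotientGroup.mk'_surjective _
  have hπ1 : ∀ {x}, π x = 1 ↔ x ∈ center K := fun {x} => QuotientGroup.eq_one_iff x
  have hcz : ∀ {z}, z ∈ center K → ∀ x, x * z = z * x := fun hz x => mem_center_iff.1 hz x
  have hZP := center_le_sylow hZ P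
  set Pb := P.mapSurjective (f := π) hπs with hPb
  have hmemP : ∀ x, π x ∈ (Pb : Subgroup (K ⧸ center K)) → x ∈ (P : Subgroup K) := by
    rintro x ⟨x', hx', e⟩
    have hz : x'⁻¹ * x ∈ center K := hπ1.1 (by rw [map_mul, map_inv, e, inv_mul_cancel])
    simpa using mul_mem hx' (hZP hz)
  have hPbab : IsMulCommutative ↥(Pb : Subgroup (K ⧸ center K)) := by
    refine ⟨⟨fun a b => Subtype.ext ?_⟩⟩
    obtain ⟨x, hx, ex⟩ := a.2
    obtain ⟨y, hy, ey⟩ := b.2
    show (a : K ⧸ center K) * b = b * a
    rw [← ex, ← ey]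
    have := hπ1.2 (hab x hx y hy)
    rwa [map_mul, map_mul, map_mul, map_inv, map_inv, mul_inv_eq_one, mul_inv_eq_iff_eq_mul] at this
  have hShape : H10.Walter.Shape (K ⧸ center K) :=
    hW _ hqs.2 (Components.qs_quotient_not_comm hqs) (H10.Walter.absyl_of_sylow Pb hPbab)
  have hsqZ : ∀ x ∈ (P : Subgroup K), x * x ∈ center K := fun x hx => hπ1.1 (by
    rw [map_mul]; exact shape_elementary hShape Pb hPbab _ ⟨x, hx, rfl⟩)
  -- commutators are involutions, so the centre is elementary
  have hcomm2 : ∀ x ∈ (P : Subgroup K), ∀ y ∈ (P : Subgroup K),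
      x * y * x⁻¹ * y⁻¹ * (x * y * x⁻¹ * y⁻¹) = 1 := by
    intro x hx y hy
    set c := x * y * x⁻¹ * y⁻¹ with hc
    have hcc : ∀ w, w * c = c * w := hcz (hab x hx y hy)
    have e1 : x * y = c * (y * x) := by rw [hc]; group
    have e2 : x * x * y = c * c * (y * (x * x)) := by
      calc x * x * y = x * (x * y) := mul_assoc _ _ _
        _ = x * c * (y * x) := by rw [e1]; group
        _ = c * (x * y) * x := by rw [hcc x]; group
        _ = c * c * (y * (x * x)) := by rw [e1]; group
    rw [show y * (x * x) = x * x * y from hcz (hsqZ x hx) y] at e2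
    exact mul_eq_right.1 e2.symm
  have hZ2 : ∀ z ∈ center K, z * z = 1 := by
    intro z hz
    let W : Subgroup K :=
      { carrier := {w | w ∈ center K ∧ w * w = 1}
        one_mem' := ⟨one_mem _, one_mul 1⟩
        mul_mem' := fun {a b} ha hb => ⟨mul_mem ha.1 hb.1, by
          calc a * b * (a * b) = a * (b * a) * b := by group
            _ = a * (a * b) * b := by rw [hcz ha.1 b]
            _ = (a * a) * (b * b) := by group
            _ = 1 := by rw [ha.2, hb.2, mul_one]⟩
        inv_mem' := fun {a} ha => by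
          rw [show a⁻¹ = a from inv_eq_of_mul_eq_one_right ha.2]; exact ha }
    have hle : ⁅(P : Subgroup K), (P : Subgroup K)⁆ ≤ W :=
      commutator_le.2 fun x hx y hy => ⟨hab x hx y hy, hcomm2 x hx y hy⟩
    exact (hle (mem_commutator_of_perfect_center P hz (hZP hz))).2
  -- squares outside the centre are constant
  have hsq : ∀ x ∈ (P : Subgroup K), ∀ y ∈ (P : Subgroup K), π x ≠ 1 → π y ≠ 1 → x * x = y * y := by
    intro x hx y hy hx1 hy1
    obtain ⟨n, hn, hnxy⟩ := shape_transitive hShape Pb hPbab ⟨x, hx, rfl⟩ ⟨y, hy, rfl⟩ hx1 hy1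
    obtain ⟨m, rfl⟩ := hπs n
    obtain ⟨z, hz, hzm⟩ : ∃ z ∈ center K, y * z = m * x * m⁻¹ := by
      refine ⟨y⁻¹ * (m * x * m⁻¹), hπ1.1 ?_, mul_inv_cancel_left _ _⟩
      rw [map_mul, map_inv, map_mul, map_mul, map_inv, hnxy, inv_mul_cancel]
    calc x * x = m * (x * x) * m⁻¹ := by rw [hcz (hsqZ x hx) m, mul_inv_cancel_right]
      _ = m * x * m⁻¹ * (m * x * m⁻¹) := by group
      _ = y * (z * y) * z := by rw [← hzm]; group
      _ = y * y * (z * z) := by rw [← hcz hz y]; group
      _ = y * y := by rw [hZ2 z hz, mul_one]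
  obtain ⟨a, ha, b, hb, hab1⟩ := H91.CI.exists_not_central hna
  set ε := a * a with hε
  have hεZ : ε ∈ center K := hsqZ a ha
  have hεε : ε * ε = 1 := hZ2 ε hεZ
  have hnc : ∀ {x y : K}, x * y ≠ y * x → π x ≠ 1 := fun hxy e => hxy (hcz (hπ1.1 e) _).symm
  have ha1 : π a ≠ 1 := hnc hab1
  have hb1 : π b ≠ 1 := hnc fun e => hab1 e.symm
  have hab' : π a * π b ≠ 1 := by
    intro e
    have hz : a * b ∈ center K := hπ1.1 (by rw [map_mul, e])
    apply hab1
    apply mul_left_cancel (a := a)
    calc a * (a * b) = a * b * a := hcz hz a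
      _ = a * (b * a) := mul_assoc _ _ _
  have hsq' : ∀ x ∈ (P : Subgroup K), π x ≠ 1 → x * x = ε := fun x hx hx1 => hsq x hx a ha hx1 ha1
  -- independent elements have commutator `ε`
  have hc : ∀ x ∈ (P : Subgroup K), ∀ y ∈ (P : Subgroup K), π x ≠ 1 → π y ≠ 1 → π x * π y ≠ 1 →
      x * y * x⁻¹ * y⁻¹ = ε := by
    intro x hx y hy hx1 hy1 hxy
    have e3 := hsq' (x * y) (mul_mem hx hy) (by rwa [map_mul])
    have hi : ∀ w ∈ (P : Subgroup K), π w ≠ 1 → w⁻¹ = w * ε := fun w hw hw1 => by
      refine inv_eq_of_mul_eq_one_right ?_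
      rw [← mul_assoc, hsq' w hw hw1, hεε]
    rw [hi x hx hx1, hi y hy hy1]
    calc x * y * (x * ε) * (y * ε) = x * y * x * (ε * y) * ε := by group
      _ = (x * y * (x * y)) * (ε * ε) := by rw [← hcz hεZ y]; group
      _ = ε := by rw [hεε, mul_one, e3]
  have hεne : ε ≠ 1 := by
    intro e
    have := hc a ha b hb ha1 hb1 hab'
    rw [e, mul_inv_eq_one, mul_inv_eq_iff_eq_mul] at this
    exact hab1 this
  -- the image of `P` has order four
  have hfour : ∀ w ∈ (P : Subgroup K), π w = 1 ∨ π w = π a ∨ π w = π b ∨ π w = π a * π b := by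
    intro w hw
    by_contra hcon
    push Not at hcon
    obtain ⟨hw1, hwa, hwb, hwab⟩ := hcon
    have hii : ∀ x ∈ (P : Subgroup K), π x * π x = 1 := fun x hx => by
      rw [← map_mul]; exact hπ1.2 (hsqZ x hx)
    have hinv : ∀ x ∈ (P : Subgroup K), ∀ t, π x * t = 1 → t = π x := fun x hx t ht =>
      mul_left_cancel (ht.trans (hii x hx).symm)
    have hbw : π b * π w ≠ 1 := fun e => hwb (hinv b hb _ e)
    have h1 := hc a ha b hb ha1 hb1 hab'
    have h2 := hc a ha w hw ha1 hw1 fun e => hwa (hinv a ha _ e)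
    have h3 := hc a ha (b * w) (mul_mem hb hw) ha1 (by rwa [map_mul]) fun e => hwab (by
      rw [map_mul] at e
      have h4 := hinv a ha _ e
      calc π w = π b * π b * π w := by rw [hii b hb, one_mul]
        _ = π b * π a := by rw [mul_assoc, h4]
        _ = π a * π b := congrArg Subtype.val
              (hPbab.is_comm.comm ⟨_, b, hb, rfl⟩ ⟨_, a, ha, rfl⟩))
    refine hεne (mul_left_cancel (a := ε) ?_)
    rw [mul_one]
    calc ε * ε = a * b * a⁻¹ * b⁻¹ * ε := by rw [h1]
      _ = a * b * a⁻¹ * b⁻¹ * (b * ε * b⁻¹) := by rw [hcz hεZ b, mul_inv_cancel_right]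
      _ = a * b * a⁻¹ * b⁻¹ * (b * (a * w * a⁻¹ * w⁻¹) * b⁻¹) := by rw [h2]
      _ = ε := by rw [← h3]; group
  have hZε : ∀ z ∈ center K, z = 1 ∨ z = ε := by
    intro z hz
    have hle : ⁅(P : Subgroup K), (P : Subgroup K)⁆ ≤ zpowers ε := commutator_le.2 fun x hx y hy => by
      show x * y * x⁻¹ * y⁻¹ ∈ _
      by_cases hxy : x * y = y * x
      · rw [show x * y * x⁻¹ * y⁻¹ = 1 by rw [hxy]; group]; exact one_mem _
      · rw [hc x hx y hy (hnc hxy) (hnc (Ne.symm hxy)) fun e => hxy (by
          apply mul_left_cancel (a := x)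
          calc x * (x * y) = x * y * x := hcz (hπ1.1 (by rw [map_mul, e])) x
            _ = x * (y * x) := mul_assoc _ _ _)]
        exact mem_zpowers _
    have hmem := hle (mem_commutator_of_perfect_center P hz (hZP hz))
    rw [← mem_powers_iff_mem_zpowers, Submonoid.mem_powers_iff] at hmem
    obtain ⟨k, rfl⟩ := hmem
    rcases Nat.even_or_odd k with ⟨j, rfl⟩ | ⟨j, rfl⟩
    · exact Or.inl (by rw [← two_mul, pow_mul, pow_two, hεε, one_pow])
    · exact Or.inr (by rw [pow_succ, pow_mul, pow_two, hεε, one_pow, one_mul])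
  have hcardZ : Nat.card ↥(center K) = 2 := by
    rw [← SetLike.coe_sort_coe, Nat.card_coe_set_eq]
    rw [show ((center K : Subgroup K) : Set K) = {1, ε} from Set.Subset.antisymm
      (fun z hz => (hZε z hz).imp id id) (by simp [Set.insert_subset_iff, hεZ])]
    exact Set.ncard_pair (Ne.symm hεne)
  have hcardPb : Nat.card ↥(Pb : Subgroup (K ⧸ center K)) = 4 := by
    rw [← SetLike.coe_sort_coe, Nat.card_coe_set_eq]
    rw [show ((Pb : Subgroup (K ⧸ center K)) : Set (K ⧸ center K)) = {1, π a, π b, π a * π b} from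
      Set.Subset.antisymm (fun t ht => by
        obtain ⟨w, hw, rfl⟩ := ht
        simpa using hfour w hw) (by
        simp only [Set.insert_subset_iff, Set.singleton_subset_iff, SetLike.mem_coe]
        exact ⟨one_mem _, ⟨a, ha, rfl⟩, ⟨b, hb, rfl⟩, mul_mem ⟨a, ha, rfl⟩ ⟨b, hb, rfl⟩⟩)]
    have hne : π a ≠ π b := fun e => by
      have : π a * π b = π (a * a) := by rw [← e, map_mul]
      exact hab' (this.trans (hπ1.2 (hsqZ a ha)))
    rw [Set.ncard_insert_of_notMem (by simp [Ne.symm ha1, Ne.symm hb1, Ne.symm hab']),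
      Set.ncard_insert_of_notMem (by simp [hne, left_eq_mul, hb1]),
      Set.ncard_pair (by simp [right_eq_mul, ha1] : π b ≠ π a * π b)]
  -- identify the quotient
  obtain ⟨F, _, _, h5, hq, ⟨e⟩⟩ : ∃ (F : Type) (_ : Field F) (_ : Fintype F), 5 ≤ Fintype.card F ∧
      (Fintype.card F % 8 = 3 ∨ Fintype.card F % 8 = 5) ∧
      Nonempty ((K ⧸ center K) ≃* Matrix.ProjectiveSpecialLinearGroup (Fin 2) F) := by
    rcases hShape with ⟨F, _, _, n, hn, hc', ⟨e⟩⟩ | hodd | hR
    · have hn2 : n = 2 := by
        have hd : 2 ^ n ∣ Nat.card (K ⧸ center K) := by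
          rw [Nat.card_congr e.toEquiv, H86.PrimeGraph.card_psl_two_even (by omega) hc']
          exact Dvd.intro _ rfl
        obtain ⟨H, hH⟩ := Sylow.exists_subgroup_card_pow_prime 2 hd
        obtain ⟨T, hT⟩ := (IsPGroup.of_card (n := n) hH).exists_le_sylow
        have h4 := Subgroup.card_le_of_le hT
        rw [hH, Nat.card_congr (T.equiv Pb).toEquiv, hcardPb] at h4
        have : n < 3 := (Nat.pow_lt_pow_iff_right one_lt_two).1 (lt_of_le_of_lt h4 (by norm_num))
        omega
      subst hn2
      haveI : Fact (Nat.Prime 5) := ⟨by norm_num⟩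
      obtain ⟨e4⟩ := S0252.result (F := F) (by rw [hc']; norm_num)
      obtain ⟨e5⟩ := S0253.result (F := ZMod 5) (ZMod.card 5)
      exact ⟨ZMod 5, inferInstance, inferInstance, by rw [ZMod.card], Or.inr (by rw [ZMod.card]),
        ⟨e.trans (e4.trans e5.symm)⟩⟩
    · exact hodd
    · exact absurd ((hR.1 Pb).symm.trans hcardPb) (by norm_num)
  have hodd : Odd (Fintype.card F) := by rw [Nat.odd_iff]; omega
  obtain ⟨f⟩ : Nonempty (K ≃* Matrix.SpecialLinearGroup (Fin 2) F) := by
    have hker : (e.toMonoidHom.comp π).ker = center K := by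
      ext x; rw [MonoidHom.mem_ker, ← hπ1]; simp
    exact H80.GW.nonempty_SL_of_double_cover hodd (by omega) (e.toMonoidHom.comp π)
      (e.surjective.comp hπs) hker.le (by rw [hker, hcardZ])
  have hcenF : ∀ g x y : K, g * x = x * g → g * y = y * g → x * y ≠ y * x → g ∈ center K := by
    intro g x y hx hy hxy
    have := sl_two_comm (g := f g) (x := f x) (y := f y) (by rw [← map_mul, hx, map_mul])
      (by rw [← map_mul, hy, map_mul]) (fun e' => hxy (f.injective (by rw [map_mul, map_mul, e'])))
    refine mem_center_iff.2 fun w => f.injective ?_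
    rw [map_mul, map_mul]
    exact mem_center_iff.1 this (f w)
  -- the normaliser of `⟨a⟩` lies in `P`
  have hord : orderOf a = 4 := by
    show orderOf a = 2 ^ (1 + 1)
    refine orderOf_eq_prime_pow (by rw [pow_one, pow_two]; exact hεne) ?_
    rw [show (2 : ℕ) ^ (1 + 1) = 2 + 2 by norm_num, pow_add, pow_two]
    exact hεε
  have hainv : a⁻¹ = a * ε := inv_eq_of_mul_eq_one_right (by rw [← mul_assoc, ← hε, hεε])
  have hCP : ∀ g, g * a = a * g → g ∈ (P : Subgroup K) := by
    intro g hg
    have hgN : g ∈ normalizer ((P : Subgroup K) : Set K) :=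
      H91.CI.centralizer_le_normalizer_sylow h ha hb (Ne.symm hab1)
        (mem_centralizer_singleton_iff.2 hg)
    have hgP : ∀ w ∈ (P : Subgroup K), g * w * g⁻¹ ∈ (P : Subgroup K) :=
      fun w hw => (mem_normalizer_iff.1 hgN w).1 hw
    -- `g²` fixes the image of `b`
    have hg2 : π (g * g * b * (g * g)⁻¹) = π b := by
      have hga : π g * π a * (π g)⁻¹ = π a := by
        rw [← map_mul, hg, map_mul, mul_inv_cancel_right]
      have hii : π a * π a = 1 := by rw [← map_mul]; exact hπ1.2 hεZ
      have e2 : π (g * g * b * (g * g)⁻¹) = π g * (π (g * b * g⁻¹)) * (π g)⁻¹ := by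
        simp only [map_mul, map_inv]; group
      rw [e2]
      rcases hfour _ (hgP b hb) with h1 | h1 | h1 | h1
      · rw [map_mul, map_mul, map_inv, conj_eq_one_iff] at h1
        exact absurd h1 hb1
      · have h1' : π g * π b * (π g)⁻¹ = π a := by rw [← h1, map_mul, map_mul, map_inv]
        exact absurd (mul_left_cancel (mul_right_cancel (h1'.trans hga.symm))) fun e' =>
          hab' (by rw [e', hii])
      · rw [h1]
        have h1' : π g * π b * (π g)⁻¹ = π b := by rw [← map_inv, ← map_mul, ← map_mul]; exact h1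
        exact h1'
      · rw [h1]
        have h1' : π g * π b * (π g)⁻¹ = π a * π b := by rw [← map_inv, ← map_mul, ← map_mul]; exact h1
        calc π g * (π a * π b) * (π g)⁻¹ = (π g * π a * (π g)⁻¹) * (π g * π b * (π g)⁻¹) := by group
          _ = π b := by rw [hga, h1', ← mul_assoc, hii, one_mul]
    obtain ⟨z, hz, hzb⟩ : ∃ z ∈ center K, g * g * b * (g * g)⁻¹ = b * z :=
      ⟨b⁻¹ * (g * g * b * (g * g)⁻¹), hπ1.1 (by rw [map_mul, map_inv, hg2, inv_mul_cancel]),
        (mul_inv_cancel_left _ _).symm⟩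
    set k := g * g * (g * g) with hk
    have hkb : k * b = b * k := by
      have : k * b * k⁻¹ = b := by
        calc k * b * k⁻¹ = g * g * (g * g * b * (g * g)⁻¹) * (g * g)⁻¹ := by rw [hk]; group
          _ = g * g * (b * z) * (g * g)⁻¹ := by rw [hzb]
          _ = g * g * b * (z * (g * g)⁻¹) := by group
          _ = g * g * b * (g * g)⁻¹ * z := by rw [← hcz hz ((g * g)⁻¹)]; group
          _ = b * (z * z) := by rw [hzb, mul_assoc]
          _ = b := by rw [hZ2 z hz, mul_one]
      exact mul_inv_eq_iff_eq_mul.1 this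
    have hka : k * a = a * k := by
      have hga : Commute g a := hg
      exact (((hga.mul_left hga).mul_left (hga.mul_left hga))).eq
    have hkZ := hcenF k a b hka hkb hab1
    have h8 : g ^ 2 ^ 3 = 1 := by
      have := hZ2 k hkZ
      rw [hk] at this
      rw [← this]
      simp only [show (2 : ℕ) ^ 3 = 8 by norm_num, pow_succ, pow_zero, one_mul, mul_assoc]
    refine H91.CI.mem_of_mem_normalizer P (R := zpowers g) ?_ (zpowers_le.2 hgN) (mem_zpowers g)
    obtain ⟨i, -, hi⟩ := (Nat.dvd_prime_pow Nat.prime_two).1 (orderOf_dvd_of_pow_eq_one h8)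
    exact IsPGroup.of_card (n := i) (by rw [Nat.card_zpowers, hi])
  have hNP : normalizer ((zpowers a : Subgroup K) : Set K) ≤ (P : Subgroup K) := by
    intro g hg
    have hbab : b * a * b⁻¹ = a * ε := by
      have := hc b hb a ha hb1 ha1 fun e' => hab' (mul_eq_one_comm.1 e')
      rw [hcz hεZ a, ← this]; group
    have hm : g * a * g⁻¹ ∈ zpowers a := (mem_normalizer_iff.1 hg a).1 (mem_zpowers a)
    rw [← mem_powers_iff_mem_zpowers, Submonoid.mem_powers_iff] at hm
    obtain ⟨k, hk⟩ := hm
    have hord' : orderOf (g * a * g⁻¹) = 4 :=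
      ((SemiconjBy.conj_mk g a).orderOf_eq g).symm.trans hord
    rw [← pow_mod_orderOf, hord] at hk
    have hk4 : k % 4 < 4 := Nat.mod_lt _ (by norm_num)
    generalize k % 4 = j at hk hk4
    interval_cases j
    · rw [← hk, pow_zero, orderOf_one] at hord'; omega
    · refine hCP g ?_
      rw [pow_one] at hk
      exact (mul_inv_eq_iff_eq_mul.1 hk.symm)
    · rw [← hk, pow_two, ← hε, orderOf_eq_prime (p := 2) (by rw [pow_two]; exact hεε) hεne] at hord'
      omega
    · have h3 : g * a * g⁻¹ = a * ε := by rw [← hk, pow_succ', pow_two, ← hε]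
      have hbg : b⁻¹ * g ∈ (P : Subgroup K) := by
        refine hCP _ (mul_inv_eq_iff_eq_mul.1 ?_)
        calc b⁻¹ * g * a * (b⁻¹ * g)⁻¹ = b⁻¹ * (g * a * g⁻¹) * b := by group
          _ = b⁻¹ * (b * a * b⁻¹) * b := by rw [h3, hbab]
          _ = a := by group
      simpa using mul_mem hb hbg
  -- so `q = 5`
  have hcardP : Nat.card ↥(P : Subgroup K) = 8 := by
    have hk : ((center K).subgroupOf (P : Subgroup K)) = (π.comp (P : Subgroup K).subtype).ker := by
      ext x; simp [mem_subgroupOf, hπ]
    have h1 := Subgroup.card_eq_card_quotient_mul_card_subgroup (π.comp (P : Subgroup K).subtype).ker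
    rw [Nat.card_congr (QuotientGroup.quotientKerEquivRange _).toEquiv, ← hk,
      Nat.card_congr (subgroupOfEquivOfLe hZP).toEquiv, hcardZ, MonoidHom.range_comp,
      range_subtype] at h1
    rw [h1, show Nat.card ↥((P : Subgroup K).map π) = 4 from hcardPb]
  have hF5 : Fintype.card F = 5 := by
    refine le_antisymm (card_le_five_of_normalizer hodd ((zpowers a).map f.toMonoidHom) ?_ ?_) h5
    · rw [Subgroup.card_map_of_injective f.injective, Nat.card_zpowers, hord]
    · rw [← Subgroup.map_equiv_normalizer_eq, Subgroup.card_map_of_injective f.injective, ← hcardP]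
      exact Subgroup.card_le_of_le hNP
  obtain ⟨f5⟩ := sl_two_five_equiv (F := F) hF5
  refine ⟨⟨f.trans f5⟩, ?_⟩
  -- at most five Sylow 2-subgroups
  have hK120 : Nat.card K = 120 := by
    rw [Nat.card_congr f.toEquiv, Linear.card_SL_two, hF5]
    norm_num
  have hsyl : Nat.card (Sylow 2 K) ≤ 5 := by
    rw [P.card_eq_index_normalizer]
    set N := normalizer ((P : Subgroup K) : Set K)
    have h3 : 3 ≤ ((P : Subgroup K).subgroupOf N).index := by
      have hlift : ∀ t ∈ (Pb : Subgroup (K ⧸ center K)), t ≠ 1 →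
          ∃ m ∈ N, π m * π a * (π m)⁻¹ = t := by
        intro t ht ht1
        obtain ⟨n, hn, hnt⟩ := shape_transitive hShape Pb hPbab ⟨a, ha, rfl⟩ ht ha1 ht1
        obtain ⟨m, rfl⟩ := hπs n
        refine ⟨m, mem_normalizer_iff.2 fun w => ⟨fun hw => hmemP _ ?_, fun hw => hmemP _ ?_⟩, hnt⟩
        · rw [map_mul, map_mul, map_inv]
          exact (mem_normalizer_iff.1 hn _).1 ⟨w, hw, rfl⟩
        · refine (mem_normalizer_iff.1 hn _).2 ?_
          rw [← map_inv, ← map_mul, ← map_mul]
          exact ⟨_, hw, rfl⟩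
      obtain ⟨m₁, hm₁, e₁⟩ := hlift (π b) ⟨b, hb, rfl⟩ hb1
      obtain ⟨m₂, hm₂, e₂⟩ := hlift (π a * π b) (mul_mem ⟨a, ha, rfl⟩ ⟨b, hb, rfl⟩) hab'
      let act : ↥N → K ⧸ center K := fun m => π m * π a * (π m)⁻¹
      have hact : ∀ m m' : ↥N, (QuotientGroup.mk m : ↥N ⧸ (P : Subgroup K).subgroupOf N) =
          QuotientGroup.mk m' → act m = act m' := by
        intro m m' e'
        rw [QuotientGroup.eq, mem_subgroupOf] at e'
        have hcm : π ((m⁻¹ * m' : ↥N) : K) * π a = π a * π ((m⁻¹ * m' : ↥N) : K) :=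
          congrArg Subtype.val (hPbab.is_comm.comm ⟨_, _, e', rfl⟩ ⟨_, a, ha, rfl⟩)
        show π m * π a * (π m)⁻¹ = π m' * π a * (π m')⁻¹
        rw [Subgroup.coe_mul, Subgroup.coe_inv, map_mul, map_inv] at hcm
        calc π m * π a * (π m)⁻¹ = π m * (π a * ((π (m : K))⁻¹ * π m')) * (π m')⁻¹ := by group
          _ = π m * ((π (m : K))⁻¹ * π m' * π a) * (π m')⁻¹ := by rw [hcm]
          _ = π m' * π a * (π m')⁻¹ := by group
      have hn1 : π a ≠ π b := fun e' => hab' (by rw [← e', ← map_mul]; exact hπ1.2 hεZ)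
      have hn2 : π a ≠ π a * π b := fun e' => hb1 (left_eq_mul.1 e')
      have hn3 : π b ≠ π a * π b := fun e' => ha1 (right_eq_mul.1 e')
      let q : Fin 3 → ↥N ⧸ (P : Subgroup K).subgroupOf N :=
        ![QuotientGroup.mk 1, QuotientGroup.mk ⟨m₁, hm₁⟩, QuotientGroup.mk ⟨m₂, hm₂⟩]
      have hq' : Function.Injective q := by
        intro i j hij
        fin_cases i <;> fin_cases j <;>
          simp only [q, Matrix.cons_val_zero, Matrix.cons_val_one, Matrix.cons_val,
            Fin.zero_eta, Fin.mk_one, Fin.isValue, Fin.reduceFinMk] at hij ⊢ <;>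
          first
            | rfl
            | (have h' := hact _ _ hij
               simp only [act, Subgroup.coe_one, map_one, one_mul, inv_one, mul_one, e₁, e₂] at h'
               first
                 | exact absurd h' hn1 | exact absurd h'.symm hn1
                 | exact absurd h' hn2 | exact absurd h'.symm hn2
                 | exact absurd h' hn3 | exact absurd h'.symm hn3)
      have := Nat.card_le_card_of_injective q hq'
      rwa [Nat.card_eq_fintype_card, Fintype.card_fin] at this
    have h24 : 24 ≤ Nat.card ↥N := by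
      rw [← ((P : Subgroup K).subgroupOf N).card_mul_index,
        Nat.card_congr (subgroupOfEquivOfLe le_normalizer).toEquiv, hcardP]
      omega
    have := N.card_mul_index
    rw [hK120] at this
    show N.index ≤ 5
    nlinarith
  intro R R' R'' hR' hR''
  obtain ⟨g, hg⟩ := MulAction.exists_smul_eq K P R
  have hgR : ∀ x ∈ (P : Subgroup K), g * x * g⁻¹ ∈ (R : Subgroup K) := fun x hx => by
    rw [← hg]; exact ⟨x, hx, rfl⟩
  set c : K → K := fun x => g * x * g⁻¹
  have hstab : ∀ x ∈ (P : Subgroup K), π x ≠ 1 → c x • R' ≠ R' := by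
    intro x hx hx1 e'
    obtain ⟨y, hy, hxy⟩ : ∃ y ∈ (P : Subgroup K), y * x ≠ x * y := by
      by_contra hcon
      push Not at hcon
      rcases hfour x hx with h1 | h1 | h1 | h1
      · exact hx1 h1
      all_goals
        have h2 : ∀ w ∈ (P : Subgroup K), π x ≠ π w → π w ≠ 1 → False := fun w hw hne hw1 => by
          refine hεne ?_
          rw [← hc x hx w hw hx1 hw1 fun e'' => hne (mul_left_cancel (a := π x)
            ((show π x * π x = 1 by rw [← map_mul]; exact hπ1.2 (hsqZ x hx)).trans e''.symm)),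
            show x * w = w * x from (hcon w hw).symm]
          group
      · exact h2 b hb (fun e'' => hab' (by rw [← e'', h1, ← map_mul]; exact hπ1.2 hεZ)) hb1
      · exact h2 a ha (fun e'' => hab' (by rw [← h1, e'', ← map_mul]; exact hπ1.2 hεZ)) ha1
      · exact h2 a ha (fun e'' => hb1 (left_eq_mul.1 (e''.symm.trans h1))) ha1
    have hxR' : c x ∈ (R' : Subgroup K) := by
      have hN : c x ∈ normalizer ((R' : Subgroup K) : Set K) :=
        Sylow.smul_eq_iff_mem_normalizer.mp e'
      have hp : IsPGroup 2 ↥(zpowers (c x)) := R.isPGroup'.to_le (zpowers_le.2 (hgR x hx))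
      exact H91.CI.mem_of_mem_normalizer R' hp (zpowers_le.2 hN) (mem_zpowers _)
    refine hR' (H91.CI.eq_of_mem h (hgR x hx) hxR' (hgR y hy) ?_).symm
    intro e''
    refine hxy (mul_left_cancel (a := g) (mul_right_cancel (b := g⁻¹) ?_))
    calc g * (y * x) * g⁻¹ = c y * c x := by simp only [c]; group
      _ = c x * c y := e''
      _ = g * (x * y) * g⁻¹ := by simp only [c]; group
  let o : Fin 4 → {T : Sylow 2 K // T ≠ R} := fun i =>
    ⟨![1, c a, c b, c (a * b)] i • R', by
      have hi : ![1, c a, c b, c (a * b)] i ∈ (R : Subgroup K) := by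
        fin_cases i
        exacts [one_mem _, hgR a ha, hgR b hb, hgR _ (mul_mem ha hb)]
      intro e'
      refine hR' ?_
      have hfix := Sylow.smul_eq_iff_mem_normalizer.mpr (le_normalizer (inv_mem hi))
      rw [← e', inv_smul_smul] at hfix
      exact hfix.trans e'⟩
  have ho : Function.Injective o := by
    have hdiv : ∀ x ∈ (P : Subgroup K), ∀ y ∈ (P : Subgroup K), c x • R' = c y • R' → π x = π y := by
      intro x hx y hy e'
      by_contra hne
      refine hstab (y⁻¹ * x) (mul_mem (inv_mem hy) hx) (fun e'' => hne ?_) ?_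
      · rw [map_mul, map_inv, inv_mul_eq_one] at e''; exact e''.symm
      · rw [show c (y⁻¹ * x) = (c y)⁻¹ * c x by simp only [c]; group, mul_smul, e', inv_smul_smul]
    have hc1 : c 1 = 1 := by simp [c]
    have hn1 : π a ≠ π b := fun e' => hab' (by rw [← e', ← map_mul]; exact hπ1.2 hεZ)
    intro i j hij
    have e' := congrArg Subtype.val hij
    simp only [o] at e'
    fin_cases i <;> fin_cases j <;>
      simp only [Matrix.cons_val_zero, Matrix.cons_val_one, Matrix.cons_val, Fin.zero_eta,
        Fin.mk_one, Fin.isValue, Fin.reduceFinMk] at e' ⊢ <;>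
      first
        | rfl
        | (try rw [← hc1] at e'
           have h' := hdiv _ (by first | exact one_mem _ | exact ha | exact hb | exact mul_mem ha hb)
             _ (by first | exact one_mem _ | exact ha | exact hb | exact mul_mem ha hb) e'
           try simp only [map_one, map_mul] at h'
           first
             | exact absurd h' ha1 | exact absurd h'.symm ha1
             | exact absurd h' hb1 | exact absurd h'.symm hb1
             | exact absurd h' hab' | exact absurd h'.symm hab'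
             | exact absurd h' hn1 | exact absurd h'.symm hn1
             | exact absurd (left_eq_mul.1 h') hb1 | exact absurd (left_eq_mul.1 h'.symm) hb1
             | exact absurd (right_eq_mul.1 h') ha1 | exact absurd (right_eq_mul.1 h'.symm) ha1)
  have hcard : Nat.card {T : Sylow 2 K // T ≠ R} ≤ 4 := by
    haveI := Fintype.ofFinite (Sylow 2 K)
    rw [Nat.card_eq_fintype_card, Fintype.card_subtype_compl, Fintype.card_subtype_eq,
      ← Nat.card_eq_fintype_card]
    omega
  have hsur : Function.Surjective o := by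
    haveI := Fintype.ofFinite {T : Sylow 2 K // T ≠ R}
    refine ((Fintype.bijective_iff_injective_and_card o).2 ⟨ho, ?_⟩).2
    have h4 := Fintype.card_le_of_injective o ho
    rw [Nat.card_eq_fintype_card] at hcard
    rw [Fintype.card_fin] at h4 ⊢
    omega
  obtain ⟨i, hi⟩ := hsur ⟨R'', hR''⟩
  refine ⟨![1, c a, c b, c (a * b)] i, ?_, congrArg Subtype.val hi⟩
  fin_cases i
  exacts [one_mem _, hgR a ha, hgR b hb, hgR _ (mul_mem ha hb)]

end Cfsg.Agent.H58.CI
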