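import Cfsg.Agent.H58.CI.Structure
import Cfsg.Agent.H58.CI.Key
import Cfsg.Agent.H58.CI.Cover
import Cfsg.Agent.H10.AbTwo.Sylow
import Cfsg.Agent.Cores.UpperSeries
import Cfsg.Agent.S1162
import Cfsg.Agent.Unitary.Simple
import Cfsg.Agent.H73.ConjAbelianQuot
import Cfsg.Prelude.Def_TwoFusion

/-!
# Finite groups with central Sylow 2-intersections

Lifting of the core-free structure theorem.
-/

set_option autoImplicit false
set_option linter.unusedSectionVars false
set_option linter.style.haveILetI false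

namespace Cfsg.Agent.H58.CI

open Subgroup
open scoped Pointwise

universe u

variable {G : Type u} [Group G] [Finite G]

local instance fact_two_main : Fact (Nat.Prime 2) := ⟨Nat.prime_two⟩

/-- With a normal Sylow 2-subgroup modulo the odd core, `G` is solvable of 2-length one. -/
theorem solvable_of_normal (S : Sylow 2 G)
    (hn : ((S : Subgroup G).map (QuotientGroup.mk' (Cfsg.oddCore G))).Normal) :
    Group.IsSolvable G ∧ Cfsg.PLengthLE 2 1 G := by
  set π := QuotientGroup.mk' (Cfsg.oddCore G) with hπ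
  have hπs : Function.Surjective π := QuotientGroup.mk'_surjective _
  set Sb := S.mapSurjective (f := π) hπs with hSb
  have hidx : Odd (Sb : Subgroup (G ⧸ Cfsg.oddCore G)).index :=
    Nat.odd_iff.2 (Nat.two_dvd_ne_zero.1 Sb.not_dvd_index)
  haveI : (Sb : Subgroup (G ⧸ Cfsg.oddCore G)).Normal := hn
  refine ⟨?_, ?_⟩
  · haveI : Group.IsSolvable ((G ⧸ Cfsg.oddCore G) ⧸ (Sb : Subgroup (G ⧸ Cfsg.oddCore G))) :=
      Cfsg.Agent.S0205.result (by rw [← Subgroup.index_eq_card]; exact hidx)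
    haveI : Group.IsNilpotent ↥(Sb : Subgroup (G ⧸ Cfsg.oddCore G)) := Sb.isPGroup'.isNilpotent
    haveI : Group.IsSolvable (G ⧸ Cfsg.oddCore G) := Group.isSolvable_of_ker_le_range
      (Sb : Subgroup (G ⧸ Cfsg.oddCore G)).subtype
      (QuotientGroup.mk' (Sb : Subgroup (G ⧸ Cfsg.oddCore G)))
      (by rw [QuotientGroup.ker_mk', range_subtype])
    haveI : Group.IsSolvable ↥(Cfsg.oddCore G) := Cfsg.Agent.S0205.result Cores.odd_card_oddCore
    exact Group.isSolvable_of_ker_le_range (Cfsg.oddCore G).subtype π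
      (by rw [hπ, QuotientGroup.ker_mk', range_subtype])
  · refine Cores.pLengthLE_one_iff.2 ?_
    have hcore : Cfsg.pCore 2 (G ⧸ Cfsg.oddCore G) = (Sb : Subgroup (G ⧸ Cfsg.oddCore G)) :=
      le_antisymm (Cores.pCore_le_sylow Sb) (Cores.le_pCore Sb.isPGroup')
    rw [← Subgroup.index_eq_card]
    show ((Cfsg.pCore 2 (G ⧸ Cfsg.oddCore G)).comap π).index.Coprime 2
    rw [hcore, Subgroup.index_comap_of_surjective _ hπs, Nat.coprime_two_right]
    exact hidx

/-- The commutators of a Sylow 2-subgroup of a simple `Sz(q)` or `PSU₃(2ⁿ)` with central intersections do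
not lie in a cyclic group generated by one of them. -/
theorem not_cyclic_commutators {Q : Type u} [Group Q] [Finite Q] (h : H91.CI.CentralInter Q)
    (hs : IsSimpleGroup Q) (hna : ¬ IsMulCommutative Q) (P : Sylow 2 Q) {x y : Q}
    (hx : x ∈ (P : Subgroup Q)) (hy : y ∈ (P : Subgroup Q)) (hne : x * y * x⁻¹ * y⁻¹ ≠ 1) :
    ¬ ∀ a ∈ (P : Subgroup Q), ∀ b ∈ (P : Subgroup Q),
      a * b * a⁻¹ * b⁻¹ ∈ zpowers (x * y * x⁻¹ * y⁻¹) := fun hall =>
  haveI := hs
  H91.CI.no_cyclic_derived h hna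
    (mul_mem (mul_mem (mul_mem hx hy) (inv_mem hx)) (inv_mem hy)) hne hall ⟨x, hx, y, hy, rfl⟩

theorem isSzOrU_sylow {Q : Type*} [Group Q] [Finite Q] (h : IsSzOrU Q) (P : Sylow 2 Q) :
    ¬ IsMulCommutative ↥(P : Subgroup Q) := by
  rcases h with ⟨m, F, _, _, hm, hc, he⟩ | ⟨n, F, _, _, hn, hc, ⟨e⟩⟩
  · exact H10.AbTwo.sz_sylow_nonabelian ⟨F, _, _, m, hm, hc, he⟩ P
  · have hc' : Fintype.card F = (2 ^ n) ^ 2 := by
      rw [hc, show (4 : ℕ) = 2 ^ 2 by norm_num, ← pow_mul, ← pow_mul, mul_comm]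
    haveI : CharP F 2 := charP_two_of_pow (n := n * 2) (by rw [hc', ← pow_mul])
    exact H10.AbTwo.psu_sylow_nonabelian hc' e P

/-- The structure theorem. -/
theorem structure_theorem (h3182 : SimpleHyp.{u}) (hW : H10.Walter.WalterHyp.{u})
    (hCI : ∀ S T : Sylow 2 G, S ≠ T → ∃ U : Sylow 2 G,
      (S : Subgroup G) ⊓ (T : Subgroup G) ≤ (Subgroup.center ↥(U : Subgroup G)).map (U : Subgroup G).subtype) :
    (Group.IsSolvable G ∧ Cfsg.PLengthLE 2 1 G) ∨
    (∀ S : Sylow 2 G, IsMulCommutative ↥(S : Subgroup G)) ∨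
    (∃ (N M : Subgroup G) (_ : N.Normal) (_ : M.Normal) (_ : (N.subgroupOf M).Normal), N < M ∧ Odd (Nat.card ↥N) ∧ Odd M.index ∧
      ∃ A L : Subgroup (↥M ⧸ N.subgroupOf M), IsMulCommutative ↥A ∧ IsPGroup 2 ↥A ∧
        Nonempty (↥L ≃* Matrix.SpecialLinearGroup (Fin 2) (ZMod 5)) ∧ (∀ a ∈ A, ∀ l ∈ L, a * l = l * a) ∧ A ⊔ L = ⊤) ∨
    (∃ (M : Subgroup G), M.Normal ∧ Odd M.index ∧ ∃ A L : Subgroup G, IsMulCommutative ↥A ∧ IsPGroup 2 ↥A ∧
      ((Cfsg.IsInternalDirectProduct A L M ∧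
          ((∃ (m : ℕ) (F : Type) (_ : Field F) (_ : Fintype F), 1 ≤ m ∧ Fintype.card F = 2 ^ (2 * m + 1) ∧
              Nonempty (↥L ≃* ↥(Cfsg.Lie.Sz F (2 ^ (m + 1))))) ∨
            (∃ (n : ℕ) (F : Type) (_ : Field F) (_ : Fintype F), 2 ≤ n ∧ Fintype.card F = 4 ^ n ∧
              (Nonempty (↥L ≃* Cfsg.PSU 3 F (2 ^ n)) ∨ Nonempty (↥L ≃* ↥(Cfsg.SU 3 F (2 ^ n))))))) ∨
        (A ≤ M ∧ L ≤ M ∧ (∀ a ∈ A, ∀ l ∈ L, a * l = l * a) ∧ A ⊔ L = M ∧ Group.IsPerfect ↥L ∧
          Subgroup.center ↥L ≠ ⊥ ∧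
          ∃ (F : Type) (_ : Field F) (_ : Fintype F), Fintype.card F = 8 ∧
            Nonempty (↥L ⧸ Subgroup.center ↥L ≃* ↥(Cfsg.Lie.Sz F 4))))) := by
  by_cases hab : ∀ S : Sylow 2 G, IsMulCommutative ↥(S : Subgroup G)
  · exact Or.inr (Or.inl hab)
  obtain ⟨S, hS⟩ := not_forall.1 hab
  have hG : H91.CI.CentralInter G := H91.CI.centralInter_of_hyp hCI
  set N := Cfsg.oddCore G with hNdef
  set π := QuotientGroup.mk' N with hπ
  have hπs : Function.Surjective π := QuotientGroup.mk'_surjective _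
  set Sb := S.mapSurjective (f := π) hπs with hSb
  by_cases hn : (Sb : Subgroup (G ⧸ N)).Normal
  · exact Or.inl (solvable_of_normal S hn)
  have hNodd : Odd (Nat.card ↥N) := Cores.odd_card_oddCore
  have hSN : ∀ x ∈ (S : Subgroup G), x ∈ N → x = 1 := by
    intro x hx hxN
    obtain ⟨k, hk⟩ := S.isPGroup'.exists_card_eq
    have hcop : (Nat.card ↥(S : Subgroup G)).Coprime (Nat.card ↥N) := by
      rw [hk]
      exact Nat.Coprime.pow_left k ((Nat.prime_two.coprime_iff_not_dvd).2 hNodd.not_two_dvd_nat)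
    exact mem_bot.1 ((disjoint_iff.1 (disjoint_of_coprime_natCard hcop)) ▸ mem_inf.2 ⟨hx, hxN⟩)
  have hinjS : ∀ x ∈ (S : Subgroup G), ∀ y ∈ (S : Subgroup G), π x = π y → x = y := by
    intro x hx y hy e
    have hm : x⁻¹ * y ∈ N := by
      rw [← QuotientGroup.ker_mk' N, ← hπ, MonoidHom.mem_ker, map_mul, map_inv, e, inv_mul_cancel]
    exact inv_mul_eq_one.1 (hSN _ (mul_mem (inv_mem hx) hy) hm)
  have hSb' : ¬ IsMulCommutative ↥(Sb : Subgroup (G ⧸ N)) := fun hc => hS ⟨⟨fun a b => Subtype.ext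
    (hinjS _ (mul_mem a.2 b.2) _ (mul_mem b.2 a.2) (by
      simp only [Subgroup.coe_mul, map_mul]
      exact congrArg Subtype.val (hc.is_comm.comm ⟨_, a, a.2, rfl⟩ ⟨_, b, b.2, rfl⟩)))⟩⟩
  obtain ⟨K, hKn, hKperf, hkind, hKZ, hRab, hRK, hSle, hidx⟩ := core_free_structure h3182 hW
    (hG.of_surjective hπs) Cores.pPrimeCore_quotient_pPrimeCore hn hSb'
  haveI := hKn
  haveI := hKperf
  set R := Cfsg.pCore 2 (G ⧸ N) with hR
  have hRp : IsPGroup 2 ↥R := Cores.pCore_isPGroup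
  have hMnormal : ((K ⊔ R).comap π).Normal := inferInstance
  have hMidx : Odd ((K ⊔ R).comap π).index := by rwa [index_comap_of_surjective _ hπs]
  rcases hkind with hSL | hSU
  · -- `SL₂(5)`
    refine Or.inr (Or.inr (Or.inl ?_))
    set M := (K ⊔ R).comap π with hM
    have hNM : N ≤ M := fun x hx => by
      rw [hM, mem_comap, show π x = 1 from (QuotientGroup.eq_one_iff x).2 hx]; exact one_mem _
    haveI : (N.subgroupOf M).Normal := inferInstance
    let φ : ↥M →* ↥(K ⊔ R) := (π.comp M.subtype).codRestrict (K ⊔ R) fun x => x.2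
    have hφs : Function.Surjective φ := fun y => by
      obtain ⟨x, hx⟩ := hπs y
      exact ⟨⟨x, show π x ∈ K ⊔ R from hx ▸ y.2⟩, Subtype.ext hx⟩
    have hφk : φ.ker = N.subgroupOf M := by
      ext x
      rw [MonoidHom.mem_ker, mem_subgroupOf]
      exact ⟨fun e => (QuotientGroup.eq_one_iff (x : G)).1 (congrArg Subtype.val e :),
        fun e => Subtype.ext ((QuotientGroup.eq_one_iff (x : G)).2 e)⟩
    let ψ : ↥M ⧸ N.subgroupOf M ≃* ↥(K ⊔ R) := (QuotientGroup.quotientMulEquivOfEq hφk.symm).trans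
      (QuotientGroup.quotientKerEquivOfSurjective φ hφs)
    refine ⟨N, M, inferInstance, hMnormal, inferInstance, ?_, hNodd, hMidx,
      (R.subgroupOf (K ⊔ R)).map ψ.symm.toMonoidHom, (K.subgroupOf (K ⊔ R)).map ψ.symm.toMonoidHom,
      ?_, (hRp.comap_subtype).map _, ?_, ?_, ?_⟩
    · refine lt_of_le_of_ne hNM fun e => hSb' ⟨⟨fun a b => Subtype.ext ?_⟩⟩
      have h1 : ∀ c : ↥(Sb : Subgroup (G ⧸ N)), (c : G ⧸ N) = 1 := fun c => by
        obtain ⟨x, hx⟩ := hπs (c : G ⧸ N)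
        rw [← hx]
        exact (QuotientGroup.eq_one_iff x).2 (e ▸ (show π x ∈ K ⊔ R from hx ▸ hSle c.2))
      simp [h1]
    · refine ⟨⟨?_⟩⟩
      rintro ⟨_, a, ha, rfl⟩ ⟨_, b, hb, rfl⟩
      refine Subtype.ext ?_
      show ψ.symm.toMonoidHom a * ψ.symm.toMonoidHom b = ψ.symm.toMonoidHom b * ψ.symm.toMonoidHom a
      rw [← map_mul, ← map_mul]
      exact congrArg _ (Subtype.ext (congrArg Subtype.val (hRab.is_comm.comm ⟨_, ha⟩ ⟨_, hb⟩) :))
    · obtain ⟨e⟩ := hSL
      exact ⟨((equivMapOfInjective _ _ ψ.symm.injective).symm.trans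
        (subgroupOfEquivOfLe le_sup_left)).trans e⟩
    · rintro _ ⟨a, ha, rfl⟩ _ ⟨l, hl, rfl⟩
      rw [← map_mul, ← map_mul]
      exact congrArg _ (Subtype.ext (hRK _ ha _ hl))
    · rw [← Subgroup.map_sup, ← subgroupOf_sup le_sup_right le_sup_left, sup_comm R K, subgroupOf_self,
        map_top_of_surjective _ ψ.symm.surjective]
  · -- `Sz(q)` or `PSU₃(2ⁿ)`
    refine Or.inr (Or.inr (Or.inr ?_))
    have hqsimple : IsSimpleGroup (↥K ⧸ center ↥K) ∧ ¬ IsMulCommutative (↥K ⧸ center ↥K) := by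
      have hK : Cfsg.IsQuasisimple ↥K := by
        refine ⟨hKperf, ?_⟩
        rcases hSU with ⟨m, F, _, _, hm, hc, ⟨e⟩⟩ | ⟨n, F, _, _, hn', hc, ⟨e⟩⟩
        · haveI := S1162.result (F := F) hm hc
          haveI : Nontrivial (↥K ⧸ center ↥K) := e.toEquiv.nontrivial
          exact IsSimpleGroup.isSimpleGroup_of_surjective e.symm.toMonoidHom e.symm.surjective
        · have hc' : Fintype.card F = (2 ^ n) ^ 2 := by
            rw [hc, show (4 : ℕ) = 2 ^ 2 by norm_num, ← pow_mul, ← pow_mul, mul_comm]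
          haveI : IsSimpleGroup (Cfsg.PSU 3 F (2 ^ n)) := Unitary.isSimpleGroup_PSU hc' le_rfl fun h =>
            absurd (le_trans (Nat.pow_le_pow_right two_pos hn') h.2.le) (by norm_num)
          haveI : Nontrivial (↥K ⧸ center ↥K) := e.toEquiv.nontrivial
          exact IsSimpleGroup.isSimpleGroup_of_surjective e.symm.toMonoidHom e.symm.surjective
      exact ⟨hK.2, Components.qs_quotient_not_comm hK⟩
    have hKbar : H91.CI.CentralInter (↥K ⧸ center ↥K) :=
      (((hG.of_surjective hπs).subgroup K)).of_surjective (QuotientGroup.mk'_surjective _)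
    -- the part of `S` in `K`
    obtain ⟨P, hP⟩ := (Cfsg.Agent.S0542.result 2 K (Subgroup.Normal.isSubnormal hKn) Sb).imp fun _ e => e.symm
    have hmemP : ∀ {x : ↥K}, x ∈ (P : Subgroup ↥K) ↔ (x : G ⧸ N) ∈ (Sb : Subgroup (G ⧸ N)) :=
      fun {x} => by rw [← hP, mem_subgroupOf]
    set ρ := QuotientGroup.mk' (center ↥K) with hρ
    set Pb := P.mapSurjective (f := ρ) (QuotientGroup.mk'_surjective _) with hPb
    have hRc : ∀ r ∈ R, ∀ s ∈ (Sb : Subgroup (G ⧸ N)), s * r = r * s := fun r hr s hs =>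
      pCore_central (hG.of_surjective hπs) hn hr hs
    -- commutators of `S` are commutators of `P`
    have hdec : ∀ s ∈ (S : Subgroup G), ∃ k : ↥K, k ∈ (P : Subgroup ↥K) ∧ ∃ r ∈ R, π s = k * r := by
      intro s hs
      obtain ⟨k, hk, r, hr, e⟩ := mem_sup_of_normal_left.1 (hSle ⟨s, hs, rfl⟩)
      refine ⟨⟨k, hk⟩, hmemP.2 ?_, r, hr, e.symm⟩
      show k ∈ (Sb : Subgroup (G ⧸ N))
      rw [show k = π s * r⁻¹ by rw [← e, mul_inv_cancel_right]]
      exact mul_mem ⟨s, hs, rfl⟩ (inv_mem (Cores.pCore_le_sylow Sb hr))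
    have hcomm : ∀ {s t : G} {k l : ↥K} {r r' : G ⧸ N}, k ∈ (P : Subgroup ↥K) → l ∈ (P : Subgroup ↥K) →
        r ∈ R → r' ∈ R → π s = k * r → π t = l * r' →
        π (s * t * s⁻¹ * t⁻¹) = ((k * l * k⁻¹ * l⁻¹ : ↥K) : G ⧸ N) := by
      intro s t k l r r' hk hl hr hr' es et
      simp only [map_mul, map_inv, es, et, Subgroup.coe_mul, Subgroup.coe_inv]
      have a1 : Commute r (l : G ⧸ N) := hRK r hr l l.2
      have a2 : Commute r' (k : G ⧸ N) := hRK r' hr' k k.2
      have a3 : Commute r r' := congrArg Subtype.val (hRab.is_comm.comm ⟨r, hr⟩ ⟨r', hr'⟩)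
      calc (k : G ⧸ N) * r * (l * r') * (k * r)⁻¹ * (l * r')⁻¹
          = k * (r * l) * (r' * r⁻¹) * (k : G ⧸ N)⁻¹ * r'⁻¹ * (l : G ⧸ N)⁻¹ := by group
        _ = k * (l * r) * (r⁻¹ * r') * (k : G ⧸ N)⁻¹ * r'⁻¹ * (l : G ⧸ N)⁻¹ := by
            rw [a1.eq, a3.inv_left.eq]
        _ = k * l * (r' * (k : G ⧸ N)⁻¹) * r'⁻¹ * (l : G ⧸ N)⁻¹ := by group
        _ = k * l * ((k : G ⧸ N)⁻¹ * r') * r'⁻¹ * (l : G ⧸ N)⁻¹ := by rw [a2.inv_right.eq]
        _ = k * l * (k : G ⧸ N)⁻¹ * (l : G ⧸ N)⁻¹ := by group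
    have hcyc : ∀ c ∈ (S : Subgroup G), ¬ ∀ x ∈ (S : Subgroup G), ∀ y ∈ (S : Subgroup G),
        x * y * x⁻¹ * y⁻¹ ∈ zpowers c := by
      intro c hcS hall
      obtain ⟨x₀, hx₀, y₀, hy₀, hne⟩ := H91.CI.exists_not_central (isSzOrU_sylow hSU Pb)
      -- the images of all commutators lie in one cyclic subgroup
      obtain ⟨z, hz⟩ : ∃ z : ↥K ⧸ center ↥K, ∀ a ∈ (Pb : Subgroup (↥K ⧸ center ↥K)),
          ∀ b ∈ (Pb : Subgroup (↥K ⧸ center ↥K)), a * b * a⁻¹ * b⁻¹ ∈ zpowers z := by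
        let W : Subgroup (G ⧸ N) := zpowers (π c) ⊓ K
        haveI : IsCyclic ↥W := isCyclic_of_injective (inclusion (inf_le_left : W ≤ zpowers (π c)))
          (inclusion_injective _)
        haveI : IsCyclic ↥(W.subgroupOf K) :=
          isCyclic_of_injective (subgroupOfEquivOfLe (inf_le_right : W ≤ K)).toMonoidHom
            (subgroupOfEquivOfLe (inf_le_right : W ≤ K)).injective
        obtain ⟨z₀, hz₀⟩ := (IsCyclic.exists_generator (α := ↥(W.subgroupOf K)))
        refine ⟨ρ z₀, ?_⟩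
        rintro _ ⟨k, hk, rfl⟩ _ ⟨l, hl, rfl⟩
        obtain ⟨s, hs, es⟩ := hmemP.1 hk
        obtain ⟨t, ht, et⟩ := hmemP.1 hl
        have e := hcomm (r := 1) (r' := 1) hk hl (one_mem _) (one_mem _)
          (by rw [mul_one]; exact es) (by rw [mul_one]; exact et)
        have hW : (k * l * k⁻¹ * l⁻¹ : ↥K) ∈ W.subgroupOf K := by
          refine mem_subgroupOf.2 ⟨?_, (k * l * k⁻¹ * l⁻¹).2⟩
          rw [← e, SetLike.mem_coe, ← MonoidHom.map_zpowers]
          exact mem_map_of_mem _ (hall s hs t ht)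
        obtain ⟨i, hi⟩ := mem_zpowers_iff.1 (hz₀ ⟨_, hW⟩)
        refine mem_zpowers_iff.2 ⟨i, ?_⟩
        have hi' : ((z₀ : ↥K)) ^ i = k * l * k⁻¹ * l⁻¹ := by
          rw [← SubgroupClass.coe_zpow, hi]
        rw [← map_zpow, hi', map_mul, map_mul, map_mul, map_inv, map_inv]
      -- one commutator generates them
      have hzle : ∀ a ∈ (Pb : Subgroup (↥K ⧸ center ↥K)), ∀ b ∈ (Pb : Subgroup (↥K ⧸ center ↥K)),
          a * b * a⁻¹ * b⁻¹ ∈ zpowers z := hz
      classical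
      obtain ⟨⟨a, b⟩, hab', hmax⟩ := Set.exists_max_image
        {p : (↥K ⧸ center ↥K) × (↥K ⧸ center ↥K) | p.1 ∈ (Pb : Subgroup (↥K ⧸ center ↥K)) ∧
          p.2 ∈ (Pb : Subgroup (↥K ⧸ center ↥K))}
        (fun p => orderOf (p.1 * p.2 * p.1⁻¹ * p.2⁻¹)) (Set.toFinite _) ⟨(1, 1), one_mem _, one_mem _⟩
      have hne1 : a * b * a⁻¹ * b⁻¹ ≠ 1 := by
        intro e
        have hle := hmax (x₀, y₀) ⟨hx₀, hy₀⟩
        simp only [e, orderOf_one] at hle
        have h1 : x₀ * y₀ * x₀⁻¹ * y₀⁻¹ = 1 := orderOf_eq_one_iff.1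
          (le_antisymm hle (orderOf_pos _))
        rw [mul_inv_eq_one, mul_inv_eq_iff_eq_mul] at h1
        exact hne h1
      refine not_cyclic_commutators hKbar hqsimple.1 hqsimple.2 Pb hab'.1 hab'.2 hne1
        fun a' ha' b' hb' => ?_
      -- in a cyclic 2-group, the larger order generates
      set d := a * b * a⁻¹ * b⁻¹ with hd
      set d' := a' * b' * a'⁻¹ * b'⁻¹ with hd'
      have hp : ∀ w ∈ (Pb : Subgroup (↥K ⧸ center ↥K)), ∃ j, orderOf w = 2 ^ j := fun w hw => by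
        obtain ⟨j, hj⟩ := IsPGroup.iff_orderOf.1 Pb.isPGroup' ⟨w, hw⟩
        exact ⟨j, by rw [← hj, ← Subgroup.orderOf_coe]⟩
      obtain ⟨i, hi⟩ := hp d (mul_mem (mul_mem (mul_mem hab'.1 hab'.2) (inv_mem hab'.1)) (inv_mem hab'.2))
      obtain ⟨j, hj⟩ := hp d' (mul_mem (mul_mem (mul_mem ha' hb') (inv_mem ha')) (inv_mem hb'))
      have hji : j ≤ i := by
        have := hmax (a', b') ⟨ha', hb'⟩
        simp only [← hd'] at this
        rw [hi, hj] at this
        exact (Nat.pow_le_pow_iff_right (le_refl 2)).1 this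
      have hdvd : Nat.card ↥(zpowers d') ∣ Nat.card ↥(zpowers d) := by
        rw [Nat.card_zpowers, Nat.card_zpowers, hi, hj]; exact pow_dvd_pow 2 hji
      have h1 : (zpowers d').subgroupOf (zpowers z) ≤ (zpowers d).subgroupOf (zpowers z) := by
        have hd1 : zpowers d ≤ zpowers z := zpowers_le.2 (hzle a hab'.1 b hab'.2)
        have hd2 : zpowers d' ≤ zpowers z := zpowers_le.2 (hzle a' ha' b' hb')
        rw [← Nat.card_congr (subgroupOfEquivOfLe hd1).toEquiv,
          ← Nat.card_congr (subgroupOfEquivOfLe hd2).toEquiv] at hdvd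
        exact H73.le_of_card_dvd_cyclic hdvd
      have h2 := h1 (show (⟨d', hzle a' ha' b' hb'⟩ : ↥(zpowers z)) ∈ _ from
        mem_subgroupOf.2 (mem_zpowers d'))
      exact mem_subgroupOf.1 h2
    -- every Sylow 2-subgroup centralises `N`
    have hNS : ∀ s ∈ (S : Subgroup G), ∀ v ∈ N, v * s = s * v := fun s hs v hv =>
      ((mem_centralizer_iff.1 (le_centralizer_of_odd hG hS hcyc N hNodd
        (le_top.trans (normalizer_eq_top N).ge) hv) s hs)).symm
    have hNall : ∀ (g : G), ∀ s ∈ (S : Subgroup G), ∀ v ∈ N, v * (g * s * g⁻¹) = g * s * g⁻¹ * v := by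
      intro g s hs v hv
      have hv' : g⁻¹ * v * g ∈ N := by
        simpa using (inferInstance : N.Normal).conj_mem v hv g⁻¹
      calc v * (g * s * g⁻¹) = g * (g⁻¹ * v * g * s) * g⁻¹ := by group
        _ = g * (s * (g⁻¹ * v * g)) * g⁻¹ := by rw [hNS s hs _ hv']
        _ = g * s * g⁻¹ * v := by group
    set M := normalClosure ((S : Subgroup G) : Set G) with hM
    have hSM : (S : Subgroup G) ≤ M := le_normalClosure
    have hMN : ∀ x ∈ M, ∀ v ∈ N, v * x = x * v := by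
      have hle : M ≤ centralizer (N : Set G) := by
        refine (closure_le _).2 fun x hx => ?_
        obtain ⟨y, hy, hyx⟩ := Group.mem_conjugatesOfSet_iff.1 hx
        obtain ⟨g, rfl⟩ := isConj_iff.1 hyx
        exact mem_centralizer_iff.2 fun v hv => hNall g y hy v hv
      exact fun x hx v hv => mem_centralizer_iff.1 (hle hx) v hv
    haveI hMn : M.Normal := normalClosure_normal
    -- the image of `M`
    have hMimg : M.map π = K ⊔ R := by
      have hnor : (M.map π).Normal := hMn.map π hπs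
      refine le_antisymm ?_ (sup_le ?_ ?_)
      · refine map_le_iff_le_comap.2 (normalClosure_le_normal fun x hx => ?_)
        exact hSle ⟨x, hx, rfl⟩
      · have hqs : Cfsg.IsQuasisimple ↥K := ⟨hKperf, hqsimple.1⟩
        have hPna : ¬ IsMulCommutative ↥(P : Subgroup ↥K) := fun hc => isSzOrU_sylow hSU Pb
          ⟨⟨fun a b => by
            obtain ⟨x, hx, ex⟩ := a.2
            obtain ⟨y, hy, ey⟩ := b.2
            refine Subtype.ext ?_
            rw [Subgroup.coe_mul, Subgroup.coe_mul, ← ex, ← ey, ← map_mul, ← map_mul,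
              show x * y = y * x from congrArg Subtype.val (hc.is_comm.comm ⟨x, hx⟩ ⟨y, hy⟩)]⟩⟩
        have htop := centralises_of_conjugates hqs hPna (C := (M.map π).subgroupOf K) fun g y hy => by
          rw [mem_subgroupOf, Subgroup.coe_mul, Subgroup.coe_mul, Subgroup.coe_inv]
          exact hnor.conj_mem _ (map_mono hSM (hmemP.1 hy)) _
        intro x hx
        exact mem_subgroupOf.1 (htop ▸ mem_top (⟨x, hx⟩ : ↥K))
      · exact (Cores.pCore_le_sylow Sb).trans (map_mono hSM)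
    have hMidx' : Odd M.index :=
      Odd.of_dvd_nat (Nat.odd_iff.2 (Nat.two_dvd_ne_zero.1 S.not_dvd_index))
        (Subgroup.index_dvd_of_le hSM)
    -- the abelian part
    set A := (S : Subgroup G) ⊓ R.comap π with hA
    have hAc : ∀ a ∈ A, ∀ x ∈ M, x * a = a * x := by
      intro a ha
      have hle : M ≤ centralizer ({a} : Set G) := by
        refine (closure_le _).2 fun x hx => ?_
        obtain ⟨y, hy, hyx⟩ := Group.mem_conjugatesOfSet_iff.1 hx
        obtain ⟨g, rfl⟩ := isConj_iff.1 hyx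
        refine mem_centralizer_singleton_iff.2 ?_
        -- `a` is `g a₀ g⁻¹` up to an element of `N`
        have hπa : π g⁻¹ * π a * (π g⁻¹)⁻¹ ∈ R := (inferInstance : R.Normal).conj_mem _ ha.2 _
        obtain ⟨a₀, ha₀, e₀⟩ := Cores.pCore_le_sylow Sb hπa
        set v := (g⁻¹ * a * g)⁻¹ * a₀ with hv
        have hvN : v ∈ N := by
          rw [← QuotientGroup.ker_mk' N, ← hπ, MonoidHom.mem_ker, hv, map_mul, map_inv, e₀, map_mul,
            map_mul, map_inv]
          group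
        have hay : a₀ * y = y * a₀ := hinjS _ (mul_mem ha₀ hy) _ (mul_mem hy ha₀) (by
          rw [map_mul, map_mul]
          exact (hRc _ (e₀ ▸ hπa) _ ⟨y, hy, rfl⟩).symm)
        have hvy := hNS y hy v hvN
        have e1 : g⁻¹ * a * g = a₀ * v⁻¹ := by rw [hv]; group
        have e2 : Commute (g⁻¹ * a * g) y := by
          rw [e1]; exact (show Commute a₀ y from hay).mul_left (show Commute v y from hvy).inv_left
        calc g * y * g⁻¹ * a = g * (y * (g⁻¹ * a * g)) * g⁻¹ := by group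
          _ = g * (g⁻¹ * a * g * y) * g⁻¹ := by rw [e2.eq]
          _ = a * (g * y * g⁻¹) := by group
      exact fun x hx => mem_centralizer_singleton_iff.1 (hle hx)
    have hAab : IsMulCommutative ↥A := ⟨⟨fun a b => Subtype.ext (hAc b b.2 a (hSM a.2.1))⟩⟩
    have hAp : IsPGroup 2 ↥A := S.isPGroup'.to_le inf_le_left
    -- the perfect part
    set L₀ := M ⊓ K.comap π with hL₀
    let ξ : ↥L₀ →* ↥K := (π.comp L₀.subtype).codRestrict K fun x => x.2.2
    have hξs : Function.Surjective ξ := fun k => by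
      obtain ⟨x, hx, e⟩ := (hMimg ▸ mem_sup_left k.2 : (k : G ⧸ N) ∈ M.map π)
      exact ⟨⟨x, hx, show π x ∈ K from e ▸ k.2⟩, Subtype.ext e⟩
    have hξc : ξ.ker ≤ center ↥L₀ := fun x hx => by
      have hxN : (x : G) ∈ N := (QuotientGroup.eq_one_iff _).1
        (congrArg Subtype.val (MonoidHom.mem_ker.1 hx) :)
      exact mem_center_iff.2 fun y => Subtype.ext (hMN y y.2.1 x hxN).symm
    obtain ⟨hmapξ, hLp⟩ := H74.Schur.commutator_perfect hξs hξc hKperf
    set L := (_root_.commutator ↥L₀).map L₀.subtype with hL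
    let iL : ↥(_root_.commutator ↥L₀) ≃* ↥L :=
      equivMapOfInjective _ _ L₀.subtype_injective
    haveI hLperf : Group.IsPerfect ↥L :=
      haveI := hLp
      Group.IsPerfect.ofSurjective (f := iL.toMonoidHom) iL.surjective
    have hLL₀ : L ≤ L₀ := map_subtype_le _
    have hLM : L ≤ M := hLL₀.trans inf_le_left
    have hAL : ∀ a ∈ A, ∀ l ∈ L, a * l = l * a := fun a ha l hl => (hAc a ha l (hLM hl)).symm
    have hsup : A ⊔ L = M := by
      refine le_antisymm (sup_le (inf_le_left.trans hSM) hLM) ?_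
      refine (closure_le _).2 fun x hx => ?_
      have hxM : x ∈ M := subset_closure hx
      obtain ⟨y, hy, hyx⟩ := Group.mem_conjugatesOfSet_iff.1 hx
      obtain ⟨k, hk, r, hr, e⟩ := mem_sup_of_normal_left.1 (hMimg ▸ mem_map_of_mem π hxM :
        π x ∈ K ⊔ R)
      obtain ⟨l, hl, el⟩ : ∃ l ∈ L, π l = k := by
        obtain ⟨w, hw, ew⟩ := (hmapξ ▸ mem_top (⟨k, hk⟩ : ↥K) :
          (⟨k, hk⟩ : ↥K) ∈ (_root_.commutator ↥L₀).map ξ)
        exact ⟨w, ⟨w, hw, rfl⟩, congrArg Subtype.val ew⟩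
      obtain ⟨a, haS, ea⟩ := Cores.pCore_le_sylow Sb hr
      have haA : a ∈ A := ⟨haS, show π a ∈ R from ea.symm ▸ hr⟩
      have hla : l * a ∈ A ⊔ L := mul_mem (mem_sup_right hl) (mem_sup_left haA)
      set v := (l * a)⁻¹ * x with hv
      have hvN : v ∈ N := by
        rw [← QuotientGroup.ker_mk' N, ← hπ, MonoidHom.mem_ker, hv, map_mul, map_inv, map_mul, el, ea,
          e, inv_mul_cancel]
      have hcomm' : Commute v (l * a) := hMN _ (mul_mem (hLM hl) (hSM haS)) v hvN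
      have hx' : x = l * a * v := by rw [hv, mul_inv_cancel_left]
      -- the odd power of `x` lies in `A ⊔ L`
      set m := Nat.card ↥N with hm
      have hxm : x ^ m ∈ A ⊔ L := by
        rw [hx', hcomm'.symm.mul_pow]
        have : v ^ m = 1 := congrArg Subtype.val (pow_card_eq_one' (x := (⟨v, hvN⟩ : ↥N)))
        rw [this, mul_one]
        exact pow_mem hla _
      obtain ⟨i, hi⟩ := S.isPGroup' ⟨y, hy⟩
      obtain ⟨g, rfl⟩ := isConj_iff.1 hyx
      have hxi : (g * y * g⁻¹) ^ 2 ^ i = 1 := by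
        rw [conj_pow, show y ^ 2 ^ i = 1 from congrArg Subtype.val hi]
        group
      obtain ⟨j, hj⟩ := exists_pow_eq_self_of_coprime (x := g * y * g⁻¹) (n := m)
        (Nat.Coprime.coprime_dvd_right (orderOf_dvd_of_pow_eq_one hxi)
          (Nat.Coprime.pow_right i ((Nat.coprime_two_right).2 hNodd)))
      rw [SetLike.mem_coe, ← hj]
      exact pow_mem hxm _
    -- the central quotient of `L`
    let σ : ↥L →* ↥K ⧸ center ↥K := ρ.comp (ξ.comp (inclusion hLL₀))
    have hσs : Function.Surjective σ := fun y => by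
      obtain ⟨k, rfl⟩ := QuotientGroup.mk'_surjective _ y
      obtain ⟨w, hw, ew⟩ := (hmapξ ▸ mem_top k : k ∈ (_root_.commutator ↥L₀).map ξ)
      refine ⟨⟨w, ⟨w, hw, rfl⟩⟩, ?_⟩
      show ρ (ξ (inclusion hLL₀ _)) = ρ k
      rw [← ew]
      rfl
    have hσk : σ.ker = center ↥L := by
      refine le_antisymm (fun x hx => ?_) fun x hx => ?_
      · refine H74.Schur.mem_center_of_map_mem_center hLperf
          (π := ξ.comp (inclusion hLL₀)) (fun z hz => ?_) fun z => ?_
        · have hz' := hξc (show inclusion hLL₀ z ∈ ξ.ker from MonoidHom.mem_ker.2 hz)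
          exact mem_center_iff.2 fun w => Subtype.ext
            (congrArg Subtype.val (mem_center_iff.1 hz' (inclusion hLL₀ w)) :)
        · exact (mem_center_iff.1 ((QuotientGroup.eq_one_iff _).1 (MonoidHom.mem_ker.1 hx)) _).symm
      · by_contra hne
        have hc : σ x ∈ center (↥K ⧸ center ↥K) := mem_center_iff.2 fun y => by
          obtain ⟨y, rfl⟩ := hσs y
          rw [← map_mul, ← map_mul, mem_center_iff.1 hx y]
        haveI := hqsimple.1
        rcases (inferInstance : (center (↥K ⧸ center ↥K)).Normal).eq_bot_or_eq_top with h0 | h0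
        · rw [h0, mem_bot] at hc; exact hne (MonoidHom.mem_ker.2 hc)
        · exact hqsimple.2 ⟨⟨fun p q => mem_center_iff.1 (h0 ▸ mem_top q) p⟩⟩
    let eL : ↥L ⧸ center ↥L ≃* ↥K ⧸ center ↥K := (QuotientGroup.quotientMulEquivOfEq hσk.symm).trans
      (QuotientGroup.quotientKerEquivOfSurjective σ hσs)
    have hdirect : Odd (Nat.card ↥(center ↥L)) → Cfsg.IsInternalDirectProduct A L M := by
      intro hodd
      refine ⟨inf_le_left.trans hSM, hLM, hAL, eq_bot_iff.2 ?_, hsup⟩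
      intro a ha
      have hac : (⟨a, ha.2⟩ : ↥L) ∈ center ↥L := mem_center_iff.2 fun y =>
        Subtype.ext (hAc a ha.1 y (hLM y.2))
      obtain ⟨i, hi⟩ := hAp ⟨a, ha.1⟩
      have h1 : (⟨⟨a, ha.2⟩, hac⟩ : ↥(center ↥L)) ^ 2 ^ i = 1 :=
        Subtype.ext (Subtype.ext (congrArg Subtype.val hi :))
      have h2 := orderOf_dvd_of_pow_eq_one h1
      have h3 := orderOf_dvd_natCard (⟨⟨a, ha.2⟩, hac⟩ : ↥(center ↥L))
      have hcop : (2 ^ i).Coprime (Nat.card ↥(center ↥L)) :=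
        Nat.Coprime.pow_left i (Nat.coprime_two_left.2 hodd)
      have h4 := Nat.eq_one_of_dvd_coprimes hcop h2 h3
      rw [orderOf_eq_one_iff] at h4
      exact mem_bot.2 (congrArg (fun w : ↥(center ↥L) => ((w : ↥L) : G)) h4)
    refine ⟨M, hMn, hMidx', A, L, hAab, hAp, ?_⟩
    rcases hSU with ⟨m, F, _, _, hm, hc, ⟨e⟩⟩ | ⟨n, F, _, _, hn', hc, ⟨e⟩⟩
    · by_cases hbot : center ↥L = ⊥
      · refine Or.inl ⟨hdirect (by rw [hbot, Subgroup.card_bot]; exact odd_one), Or.inl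
          ⟨m, F, inferInstance, inferInstance, hm, hc, ⟨?_⟩⟩⟩
        exact ((QuotientGroup.quotientBot (G := ↥L)).symm.trans
          (QuotientGroup.quotientMulEquivOfEq hbot.symm)).trans (eL.trans e)
      · have hm1 : m = 1 := by
          by_contra hne
          exact hbot (center_eq_bot_sz (by omega) hc (eL.trans e))
        subst hm1
        exact Or.inr ⟨inf_le_left.trans hSM, hLM, hAL, hsup, hLperf, hbot, F, inferInstance,
          inferInstance, by rw [hc]; norm_num, ⟨eL.trans e⟩⟩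
    · obtain ⟨hodd, hcases⟩ := psu_cover hn' hc (eL.trans e)
      exact Or.inl ⟨hdirect hodd, Or.inr ⟨n, F, inferInstance, inferInstance, hn', hc, hcases⟩⟩

end Cfsg.Agent.H58.CI
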