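import Cfsg.Agent.H58.CI.Klein
import Cfsg.Agent.H99.RankOne.UnitaryModel
import Cfsg.Agent.S1163

/-!
# A Sylow 2-subgroup of `Sz(q)` or `PSU₃(2ⁿ)` is transitive on the others
-/

set_option autoImplicit false
set_option linter.unusedSectionVars false
set_option linter.style.haveILetI false

namespace Cfsg.Agent.H58.CI

open Subgroup
open scoped Pointwise

local instance fact_two_m : Fact (Nat.Prime 2) := ⟨Nat.prime_two⟩

/-- A Sylow 2-subgroup fixing a point, regular on the others and normal in the stabiliser. -/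
theorem transOthers_of_action {G Ω : Type*} [Group G] [Finite G] [MulAction G Ω] (a : Ω)
    (P : Sylow 2 G) (hstab : ∀ g : G, g • a = a → g ∈ normalizer ((P : Subgroup G) : Set G))
    (htrans : ∀ x y : Ω, x ≠ a → y ≠ a → ∃ s ∈ (P : Subgroup G), s • x = y) : TransOthers G := by
  have key : ∀ g h : G, g • P ≠ P → h • P ≠ P → ∃ s ∈ (P : Subgroup G), s • (g • P) = h • P := by
    intro g h hg hh
    have hfix : ∀ x : G, x • P ≠ P → x • a ≠ a := fun x hx e =>
      hx (Sylow.smul_eq_iff_mem_normalizer.mpr (hstab x e))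
    obtain ⟨s, hs, e⟩ := htrans _ _ (hfix g hg) (hfix h hh)
    refine ⟨s, hs, ?_⟩
    have h1 : (h⁻¹ * s * g) • P = P := Sylow.smul_eq_iff_mem_normalizer.mpr
      (hstab _ (by rw [mul_smul, mul_smul, e, inv_smul_smul]))
    rw [← mul_smul]
    conv_rhs => rw [← h1, ← mul_smul]
    group
  intro R R' R'' h' h''
  obtain ⟨c, rfl⟩ := MulAction.exists_smul_eq G P R
  obtain ⟨g, rfl⟩ := MulAction.exists_smul_eq G P R'
  obtain ⟨h, rfl⟩ := MulAction.exists_smul_eq G P R''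
  obtain ⟨s, hs, e⟩ := key (c⁻¹ * g) (c⁻¹ * h)
    (fun e => h' (by rw [mul_smul, inv_smul_eq_iff] at e; exact e))
    (fun e => h'' (by rw [mul_smul, inv_smul_eq_iff] at e; exact e))
  refine ⟨c * s * c⁻¹, ⟨s, hs, rfl⟩, ?_⟩
  simpa [mul_smul] using congrArg (c • ·) e

/-- Transitivity passes to quotients. -/
theorem transOthers_of_surjective {G Q : Type*} [Group G] [Finite G] [Group Q] (hG : TransOthers G)
    {π : G →* Q} (hπ : Function.Surjective π) : TransOthers Q := by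
  intro R R' R'' h' h''
  obtain ⟨P, rfl⟩ := Sylow.mapSurjective_surjective hπ 2 R
  obtain ⟨P', rfl⟩ := Sylow.mapSurjective_surjective hπ 2 R'
  obtain ⟨P'', rfl⟩ := Sylow.mapSurjective_surjective hπ 2 R''
  obtain ⟨y, hy, e⟩ := hG P P' P'' (fun e => h' (by rw [e])) fun e => h'' (by rw [e])
  refine ⟨π y, ⟨y, hy, rfl⟩, ?_⟩
  subst e
  refine Sylow.ext ?_
  show ((P' : Subgroup G).map π).map (MulAut.conj (π y)).toMonoidHom =
    ((P' : Subgroup G).map (MulAut.conj y).toMonoidHom).map π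
  rw [map_map, map_map]
  exact congrArg (fun φ : G →* Q => (P' : Subgroup G).map φ) (MonoidHom.ext fun x => by simp)

/-- Transitivity lifts through a central 2-group. -/
theorem transOthers_of_quot {G : Type*} [Group G] [Finite G] (hZ : IsPGroup 2 ↥(center G))
    (h : TransOthers (G ⧸ center G)) : TransOthers G := by
  set π := QuotientGroup.mk' (center G) with hπ
  have hinj : ∀ P P' : Sylow 2 G, (P : Subgroup G).map π = (P' : Subgroup G).map π → P = P' := by
    intro P P' e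
    refine Sylow.ext ?_
    have := congrArg (Subgroup.comap π) e
    rwa [comap_map_eq_self (by rw [hπ, QuotientGroup.ker_mk']; exact center_le_sylow hZ P),
      comap_map_eq_self (by rw [hπ, QuotientGroup.ker_mk']; exact center_le_sylow hZ P')] at this
  intro R R' R'' h' h''
  have hs : Function.Surjective π := QuotientGroup.mk'_surjective _
  obtain ⟨_, ⟨y, hy, rfl⟩, e⟩ := h (R.mapSurjective (f := π) hs) (R'.mapSurjective (f := π) hs)
    (R''.mapSurjective (f := π) hs)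
    (fun e => h' (hinj _ _ (congrArg Sylow.toSubgroup e)))
    (fun e => h'' (hinj _ _ (congrArg Sylow.toSubgroup e)))
  refine ⟨y, hy, hinj _ _ ?_⟩
  refine Eq.trans ?_ (congrArg Sylow.toSubgroup e)
  show ((R' : Subgroup G).map (MulAut.conj y).toMonoidHom).map π =
    ((R' : Subgroup G).map π).map (MulAut.conj (π y)).toMonoidHom
  rw [map_map, map_map]
  exact congrArg (fun φ : G →* G ⧸ center G => (R' : Subgroup G).map φ)
    (MonoidHom.ext fun x => by simp)

/-- `Sz(q)`. -/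
theorem transOthers_sz {F : Type*} [Field F] [Fintype F] {m : ℕ} (hm : 1 ≤ m)
    (hF : Fintype.card F = 2 ^ (2 * m + 1)) : TransOthers ↥(Cfsg.Lie.Sz F (2 ^ (m + 1))) := by
  obtain ⟨-, S, -, -, -, hreg⟩ := S1163.result hm hF
  set N := normalizer ((S : Subgroup ↥(Cfsg.Lie.Sz F (2 ^ (m + 1)))) :
    Set ↥(Cfsg.Lie.Sz F (2 ^ (m + 1))))
  refine transOthers_of_action (QuotientGroup.mk 1 : _ ⧸ N) S (fun g hg => ?_) fun x y hx hy => ?_
  · have h1 : (QuotientGroup.mk (g * 1) : _ ⧸ N) = QuotientGroup.mk 1 := hg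
    rw [QuotientGroup.eq] at h1
    simpa [N] using h1
  · obtain ⟨s, hs, -⟩ := hreg x y hx hy
    exact ⟨s, s.2, hs⟩

open Cfsg.Agent.Unitary Cfsg.Agent.H52.SUThree Cfsg.Agent.H72.PSUThree in
/-- `SU₃(2ⁿ)`. -/
theorem transOthers_su {F : Type*} [Field F] [Fintype F] {n : ℕ} (hn : 1 ≤ n)
    (hF : Fintype.card F = (2 ^ n) ^ 2) : TransOthers ↥(Cfsg.SU 3 F (2 ^ n)) := by
  obtain ⟨u, w, f, hfr⟩ := exists_frame (q := 2 ^ n) hF
  have hnorm : ∀ g ∈ st hfr, ∀ x ∈ uni u, g * x * g⁻¹ ∈ uni u := by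
    intro g hg x hx
    have hx' : x ∈ st hfr := uni_le_st hfr hx
    have hgx : g * x * g⁻¹ ∈ st hfr := mul_mem (mul_mem hg hx') (inv_mem hg)
    refine (lamHom_eq_one_iff hF hfr (g := ⟨_, hgx⟩)).1 ?_
    rw [show (⟨g * x * g⁻¹, hgx⟩ : st hfr) = ⟨g, hg⟩ * ⟨x, hx'⟩ * ⟨g, hg⟩⁻¹ from rfl, map_mul,
      map_mul, map_inv, (lamHom_eq_one_iff hF hfr (g := ⟨x, hx'⟩)).2 hx, mul_one, mul_inv_cancel]
  have htr : ∀ x y, x ≠ pu hfr → y ≠ pu hfr → ∃ s ∈ uni (q := 2 ^ n) u, s • x = y := by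
    intro x y hx hy
    obtain ⟨b, β, h, rfl⟩ := exists_E_pf hF hfr hx
    obtain ⟨b', β', h', rfl⟩ := exists_E_pf hF hfr hy
    exact ⟨eSU hF (h'.spec hfr) * (eSU hF (h.spec hfr))⁻¹,
      mul_mem (E_mem_uni hF hfr h') (inv_mem (E_mem_uni hF hfr h)),
      by rw [mul_smul, inv_smul_smul]⟩
  have horb : MulAction.orbit ↥(Cfsg.SU 3 F (2 ^ n)) (pu hfr) = Set.univ := by
    refine Set.eq_univ_of_forall fun x => ?_
    by_cases hx : x = pu hfr
    · exact hx ▸ MulAction.mem_orbit_self _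
    · obtain ⟨b, β, h, rfl⟩ := exists_E_pf hF hfr hx
      exact ⟨eSU hF (h.spec hfr) * H99.RankOne.flip hF hfr, by
        show (eSU hF (h.spec hfr) * H99.RankOne.flip hF hfr) • pu hfr = _
        rw [mul_smul, H99.RankOne.flip_pu]⟩
  have hcard : Nat.card ↥(uni u : Subgroup ↥(Cfsg.SU 3 F (2 ^ n))) = 2 ^ (3 * n) := by
    have h1 := card_ok (F := F) (q := 2 ^ n) hF
    rw [mul_comm, pow_mul, ← h1]
    refine (Nat.card_congr (Equiv.ofBijective
      (fun p : {p : F × F // Ok (2 ^ n) p.1 p.2} =>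
        (⟨eSU hF (p.2.spec hfr), E_mem_uni hF hfr p.2⟩ : uni u)) ⟨?_, ?_⟩)).symm
    · intro p p' e
      obtain ⟨e1, e2⟩ := E_inj hF hfr p.2 p'.2 (congrArg Subtype.val e)
      exact Subtype.ext (Prod.ext e1 e2)
    · rintro ⟨g, hg⟩
      obtain ⟨b, β, hok, rfl⟩ := (mem_uni_iff hF hfr).1 hg
      exact ⟨⟨(b, β), hok⟩, rfl⟩
  have hidx : ¬ 2 ∣ (uni u : Subgroup ↥(Cfsg.SU 3 F (2 ^ n))).index := by
    have hsi : (st hfr).index = (2 ^ n) ^ 3 + 1 := by
      rw [← card_pts hF hfr, st, MulAction.index_stabilizer, horb, Set.ncard_univ]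
    have hu := (st hfr).card_mul_index
    rw [card_st hF hfr, hsi, ← (uni u : Subgroup ↥(Cfsg.SU 3 F (2 ^ n))).card_mul_index, hcard,
      ← pow_mul, mul_comm n 3, mul_assoc] at hu
    rw [← Nat.eq_of_mul_eq_mul_left (by positivity) hu]
    have e1 : (2 ^ n) ^ 2 % 2 = 0 := by
      rw [← pow_mul, Nat.pow_mod]; simp [(show n * 2 ≠ 0 by omega)]
    have e2 : 2 ^ (3 * n) % 2 = 0 := by
      rw [Nat.pow_mod]; simp [(show 3 * n ≠ 0 by omega)]
    have e3 : 1 ≤ (2 ^ n) ^ 2 := Nat.one_le_pow _ _ (by positivity)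
    intro hd
    rcases Nat.prime_two.dvd_mul.1 hd with hd | hd <;> omega
  set P := (IsPGroup.of_card (n := 3 * n) hcard).toSylow hidx
  refine transOthers_of_action (pu hfr) P (fun g hg => ?_) htr
  show g ∈ normalizer ((uni u : Subgroup ↥(Cfsg.SU 3 F (2 ^ n))) : Set ↥(Cfsg.SU 3 F (2 ^ n)))
  refine mem_normalizer_iff.2 fun x => ⟨hnorm g hg x, fun hx => ?_⟩
  have := hnorm g⁻¹ (inv_mem (show g ∈ st hfr from hg)) _ hx
  simpa [mul_assoc] using this

/-- `PSU₃(2ⁿ)`. -/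
theorem transOthers_psu {F : Type*} [Field F] [Fintype F] {n : ℕ} (hn : 1 ≤ n)
    (hF : Fintype.card F = (2 ^ n) ^ 2) : TransOthers (Cfsg.PSU 3 F (2 ^ n)) :=
  transOthers_of_surjective (transOthers_su hn hF) (π := QuotientGroup.mk' _)
    (QuotientGroup.mk'_surjective _)

/-- Transitivity along an isomorphism. -/
theorem transOthers_congr {A B : Type*} [Group A] [Group B] [Finite A] (e : A ≃* B)
    (h : TransOthers A) : TransOthers B :=
  transOthers_of_surjective h (π := e.toMonoidHom) e.surjective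

end Cfsg.Agent.H58.CI
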