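import Cfsg.Agent.H58.CI.CoreFree
import Cfsg.Agent.H58.CI.Models
import Cfsg.Agent.H58.CI.Hyp
import Cfsg.Agent.PGroups.Basic

/-!
# The structure of a core-free group with central Sylow 2-intersections

With non-abelian, non-normal Sylow 2-subgroups the group has a normal quasisimple subgroup `K` of the kinds
`SL₂(5)`, `Sz(q)`, `PSU₃(2ⁿ)` modulo the centre, and `K O₂` has odd index.
-/

set_option autoImplicit false
set_option linter.unusedSectionVars false
set_option linter.style.haveILetI false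

namespace Cfsg.Agent.H58.CI

open Subgroup
open scoped Pointwise

universe u

variable {X : Type u} [Group X] [Finite X]

local instance fact_two_s : Fact (Nat.Prime 2) := ⟨Nat.prime_two⟩

/-- The kinds of the normal quasisimple subgroup. -/
def Kind (K : Type*) [Group K] : Prop :=
  Nonempty (K ≃* Matrix.SpecialLinearGroup (Fin 2) (ZMod 5)) ∨ IsSzOrU (K ⧸ Subgroup.center K)

theorem transOthers_of_isSzOrU {G : Type*} [Group G] [Finite G] (h : IsSzOrU G) : TransOthers G := by
  rcases h with ⟨m, F, _, _, hm, hc, ⟨e⟩⟩ | ⟨n, F, _, _, hn, hc, ⟨e⟩⟩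
  · exact transOthers_congr e.symm (transOthers_sz hm hc)
  · exact transOthers_congr e.symm (transOthers_psu (by omega)
      (by rw [hc, show (4 : ℕ) = 2 ^ 2 by norm_num, ← pow_mul, ← pow_mul, mul_comm]))

/-- An element centralising all components and `O₂` and lying in `S` is in `O₂`. -/
theorem mem_pCore_of_centralises (hO : Cfsg.oddCore X = ⊥) {w : X}
    (hE : ∀ L : Subgroup X, Cfsg.IsComponent L → ∀ x ∈ L, w * x = x * w)
    (hR : ∀ x ∈ Cfsg.pCore 2 X, w * x = x * w) : w ∈ Cfsg.pCore 2 X := by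
  have hle : Cfsg.generalizedFittingSubgroup X ≤ centralizer ({w} : Set X) := by
    rw [Components.genFitting_eq_sup]
    refine sup_le (sSup_le fun L hL => fun x hx => mem_centralizer_singleton_iff.2 (hE L hL x hx).symm)
      fun f hf => mem_centralizer_singleton_iff.2 (hR f (Components.fitting_le_pCore hO hf)).symm
  have hwF : w ∈ Cfsg.generalizedFittingSubgroup X := Components.centralizer_genFitting_le
    (mem_centralizer_iff.2 fun x hx => mem_centralizer_singleton_iff.1 (hle hx))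
  set Z := (center ↥(Cfsg.generalizedFittingSubgroup X)).map
    (Cfsg.generalizedFittingSubgroup X).subtype with hZ
  haveI : Z.Normal := inferInstance
  have hwZ : w ∈ Z := ⟨⟨w, hwF⟩, mem_center_iff.2 fun x => Subtype.ext
    (mem_centralizer_singleton_iff.1 (hle x.2)), rfl⟩
  haveI : IsMulCommutative ↥Z := inferInstance
  have hnil : Group.IsNilpotent ↥Z :=
    ⟨1, Subgroup.upperCentralSeries_one (G := ↥Z) ▸ eq_top_iff.2 fun x _ =>
      mem_center_iff.2 fun y => mul_comm' y x⟩
  exact Components.fitting_le_pCore hO (Cores.le_fittingSubgroup hnil hwZ)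

/-- A perfect quasisimple group is generated by the conjugates of a non-abelian subgroup. -/
theorem centralises_of_conjugates {K : Type*} [Group K] (hqs : Cfsg.IsQuasisimple K) {P C : Subgroup K}
    (hP : ¬ IsMulCommutative ↥P) (hC : ∀ g : K, ∀ x ∈ P, g * x * g⁻¹ ∈ C) : C = ⊤ := by
  have hle : normalClosure (P : Set K) ≤ C := by
    refine (closure_le _).2 fun x hx => ?_
    obtain ⟨y, hy, hyx⟩ := Group.mem_conjugatesOfSet_iff.1 hx
    obtain ⟨g, rfl⟩ := isConj_iff.1 hyx
    exact hC g y hy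
  refine top_le_iff.1 (le_trans (le_of_eq ?_) hle)
  by_contra hne
  have hc := Components.qs_normal_le_center hqs _ (Ne.symm hne)
  exact hP ⟨⟨fun a b => Subtype.ext
    (mem_center_iff.1 (hc (le_normalClosure b.2)) a)⟩⟩

/-- The structure theorem for trivial odd core. -/
theorem core_free_structure (h3182 : SimpleHyp.{u}) (hW : H10.Walter.WalterHyp.{u})
    (h : H91.CI.CentralInter X) (hO : Cfsg.oddCore X = ⊥) {S : Sylow 2 X}
    (hn : ¬ (S : Subgroup X).Normal) (hS : ¬ IsMulCommutative ↥(S : Subgroup X)) :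
    ∃ K : Subgroup X, K.Normal ∧ Group.IsPerfect ↥K ∧ Kind ↥K ∧
      IsPGroup 2 ↥(center ↥K) ∧
      IsMulCommutative ↥(Cfsg.pCore 2 X) ∧
      (∀ r ∈ Cfsg.pCore 2 X, ∀ x ∈ K, r * x = x * r) ∧
      (S : Subgroup X) ≤ K ⊔ Cfsg.pCore 2 X ∧ Odd (K ⊔ Cfsg.pCore 2 X).index := by
  obtain ⟨K, hK, hKn, hKc, huniq⟩ := unique_component h hO hn hS
  haveI := hKn
  have hqs : Cfsg.IsQuasisimple ↥K := hK.2
  haveI : Group.IsPerfect ↥K := hqs.1
  haveI : IsSimpleGroup (↥K ⧸ center ↥K) := hqs.2
  have hKCI : H91.CI.CentralInter ↥K := h.subgroup K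
  obtain ⟨P, hP⟩ := sylow_in_component hK S
  have hmemP : ∀ {x : ↥K}, x ∈ (P : Subgroup ↥K) ↔ (x : X) ∈ (S : Subgroup X) := fun {x} => by
    rw [← hP, mem_subgroupOf]
  -- the Sylow 2-subgroups of `K` are not abelian
  have hPna : ¬ IsMulCommutative ↥(P : Subgroup ↥K) := by
    intro hPab
    haveI := hPab
    obtain ⟨hsimp, hcen⟩ := simple_of_abelian hO hK P
    have hnc : ¬ IsMulCommutative ↥K := fun hc => Components.qs_center_ne_top hqs
      (eq_top_iff.2 fun x _ => mem_center_iff.2 fun y => hc.is_comm.comm y x)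
    have hShape : H10.Walter.Shape ↥K := hW _ hsimp hnc (H10.Walter.absyl_of_sylow P hPab)
    refine hKc fun x hxS hxK s hs => ?_
    -- a non-trivial element of `S ⊓ K` central in `S`
    set D := K.subgroupOf (S : Subgroup X) with hD
    have hDne : D ≠ ⊥ := by
      obtain ⟨z, hz, hz1⟩ := (P : Subgroup ↥K).bot_or_exists_ne_one.resolve_left
        (P.ne_bot_of_dvd_card (Components.dvd_card_component (p := 2) hO hK))
      intro e
      have : (⟨(z : X), hmemP.1 hz⟩ : ↥(S : Subgroup X)) ∈ D := mem_subgroupOf.2 z.2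
      rw [e, mem_bot] at this
      exact hz1 (Subtype.ext (congrArg Subtype.val this :))
    obtain ⟨z, hz, hz1⟩ := (D ⊓ center ↥(S : Subgroup X)).bot_or_exists_ne_one.resolve_left
      (PGroups.inf_center_ne_bot S.isPGroup' D hDne)
    have hzc : ∀ t ∈ (S : Subgroup X), t * (z : X) = z * t := fun t ht =>
      congrArg Subtype.val (mem_center_iff.1 hz.2 ⟨t, ht⟩)
    by_cases hx1 : x = 1
    · rw [hx1, mul_one, one_mul]
    obtain ⟨n, hn', hnz⟩ := shape_transitive hShape P hPab
      (a := (⟨z, mem_subgroupOf.1 hz.1⟩ : ↥K)) (b := ⟨x, hxK⟩) (hmemP.2 (z : ↥(S : Subgroup X)).2)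
      (hmemP.2 hxS) (fun e => hz1 (Subtype.ext (congrArg Subtype.val e :)))
      (fun e => hx1 (congrArg Subtype.val e))
    by_cases hnS : (n : X) ∈ normalizer ((S : Subgroup X) : Set X)
    · have hs' : (n : X)⁻¹ * s * n ∈ (S : Subgroup X) := (mem_normalizer_iff''.1 hnS s).1 hs
      have hnz' : (n : X) * z * (n : X)⁻¹ = x := congrArg Subtype.val hnz
      rw [← hnz']
      calc s * ((n : X) * z * (n : X)⁻¹) = n * ((n : X)⁻¹ * s * n * z) * (n : X)⁻¹ := by group
        _ = n * (z * ((n : X)⁻¹ * s * n)) * (n : X)⁻¹ := by rw [hzc _ hs']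
        _ = n * z * (n : X)⁻¹ * s := by group
    · refine h S ((n : X) • S) (fun e => hnS (Sylow.smul_eq_iff_mem_normalizer.mp e.symm)) x hxS ?_ s hs
      have hxP : n⁻¹ * (⟨x, hxK⟩ : ↥K) * n ∈ (P : Subgroup ↥K) :=
        (mem_normalizer_iff''.1 hn' _).1 (hmemP.2 hxS)
      have h2 := H91.CI.conj_mem_sylow_iff (S := S) (g := (n : X)) |>.mpr (hmemP.1 hxP)
      simpa [mul_assoc] using h2
  have hPna' : ∀ P' : Sylow 2 ↥K, ¬ IsMulCommutative ↥(P' : Subgroup ↥K) :=
    H91.CI.not_comm_of_sylow hPna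
  -- two Sylow 2-subgroups with the same part in `K` are equal
  have heq : ∀ T T' : Sylow 2 X, (∀ x : ↥K, (x : X) ∈ (T : Subgroup X) → (x : X) ∈ (T' : Subgroup X)) →
      T = T' := by
    intro T T' hTT
    by_contra hne
    obtain ⟨P', hP'⟩ := sylow_in_component hK T
    refine hPna' P' ⟨⟨fun a b => Subtype.ext (Subtype.ext ?_)⟩⟩
    have ha := a.2
    have hb := b.2
    simp only [← hP', mem_subgroupOf] at ha hb
    exact h T T' hne _ hb (hTT _ hb) _ ha
  -- the centre of `K` is a 2-group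
  have hZ : IsPGroup 2 ↥(center ↥K) := by
    intro z
    obtain ⟨e, m, hm, hd⟩ := Nat.exists_eq_two_pow_mul_odd (orderOf_pos (z : ↥K)).ne'
    refine ⟨e, Subtype.ext ?_⟩
    rw [Subgroup.coe_pow, Subgroup.coe_one]
    have hodd : Odd (Nat.card ↥(zpowers ((z : ↥K) ^ 2 ^ e))) := by
      rw [Nat.card_zpowers, orderOf_pow, hd, Nat.gcd_eq_right (dvd_mul_right _ m),
        Nat.mul_div_cancel_left _ (by positivity)]
      exact hm
    haveI : (zpowers ((z : ↥K) ^ 2 ^ e)).Normal := by
      refine ⟨fun x hx g => ?_⟩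
      have hxc : x ∈ center ↥K := zpowers_le.2 (pow_mem z.2 _) hx
      rwa [mem_center_iff.1 hxc g, mul_inv_cancel_right]
    have hbot := (Cores.le_oddCore (N := zpowers ((z : ↥K) ^ 2 ^ e)) hodd).trans
      (Components.pPrimeCore_component (p := 2) hO hK).le
    exact mem_bot.1 (hbot (mem_zpowers _))
  -- the kind of `K`, and transitivity on the other Sylow subgroups
  obtain ⟨hkind, htr⟩ : Kind ↥K ∧ TransOthers ↥K := by
    by_cases hab : ∀ x ∈ (P : Subgroup ↥K), ∀ y ∈ (P : Subgroup ↥K), x * y * x⁻¹ * y⁻¹ ∈ center ↥K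
    · obtain ⟨he, ht⟩ := sl_two_five_of_abelian_quot hW hKCI hqs hZ P hPna hab
      exact ⟨Or.inl he, ht⟩
    · have hnab : ¬ ∀ T : Sylow 2 (↥K ⧸ center ↥K), IsMulCommutative ↥(T : Subgroup (↥K ⧸ center ↥K)) := by
        intro hall
        refine hab fun x hx y hy => (QuotientGroup.eq_one_iff _).1 ?_
        have := congrArg Subtype.val ((hall (P.mapSurjective (f := QuotientGroup.mk' (center ↥K))
          (QuotientGroup.mk'_surjective _))).is_comm.comm ⟨_, x, hx, rfl⟩ ⟨_, y, hy, rfl⟩)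
        have hxy : (QuotientGroup.mk' (center ↥K)) (x * y) = (QuotientGroup.mk' (center ↥K)) (y * x) := by
          rw [map_mul, map_mul]; exact this
        show (QuotientGroup.mk' (center ↥K)) (x * y * x⁻¹ * y⁻¹) = 1
        rw [map_mul, map_mul, hxy]
        simp [mul_assoc]
      have hsu : IsSzOrU (↥K ⧸ center ↥K) := (h3182 (↥K ⧸ center ↥K) inferInstance
        (Components.qs_quotient_not_comm hqs) fun T T' hne => ⟨T, fun x hx =>
          ⟨⟨x, hx.1⟩, mem_center_iff.2 fun t => Subtype.ext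
            (hKCI.of_surjective (QuotientGroup.mk'_surjective (center ↥K)) T T' hne x hx.1 hx.2 t t.2),
            rfl⟩⟩).resolve_left hnab
      exact ⟨Or.inr hsu, transOthers_of_quot hZ (transOthers_of_isSzOrU hsu)⟩
  -- `O₂` centralises `K`
  have hnAll : ∀ T : Sylow 2 X, ¬ (T : Subgroup X).Normal := fun T hT => hn (by
    obtain ⟨g, hg⟩ := MulAction.exists_smul_eq X T S
    rw [← hg, Sylow.smul_eq_iff_mem_normalizer.mpr (normalizer_eq_top_iff.2 hT ▸ mem_top g)]
    exact hT)
  have hRK : ∀ r ∈ Cfsg.pCore 2 X, ∀ x ∈ K, r * x = x * r := by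
    intro r hr x hx
    have htop := centralises_of_conjugates hqs hPna
      (C := (centralizer ({r} : Set X)).subgroupOf K) fun g y hy => by
        rw [mem_subgroupOf, mem_centralizer_singleton_iff]
        exact pCore_central h (hnAll ((g : X) • S)) hr
          (H91.CI.conj_mem_sylow_iff.mpr (hmemP.1 hy))
    have hxC : (⟨x, hx⟩ : ↥K) ∈ (centralizer ({r} : Set X)).subgroupOf K := htop ▸ mem_top _
    exact (mem_centralizer_singleton_iff.1 (mem_subgroupOf.1 hxC)).symm
  -- `S` lies in `K O₂`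
  have hSle : (S : Subgroup X) ≤ K ⊔ Cfsg.pCore 2 X := by
    intro f hf
    obtain ⟨g, hgK, hgS⟩ := exists_not_normalizer hO hK S
    set T : Sylow 2 X := g • S with hT
    have hTS : T ≠ S := fun e => hgS (Sylow.smul_eq_iff_mem_normalizer.mp e)
    obtain ⟨P', hP'⟩ := sylow_in_component hK T
    obtain ⟨P'', hP''⟩ := sylow_in_component hK (f • T)
    have hmP' : ∀ {x : ↥K}, x ∈ (P' : Subgroup ↥K) ↔ (x : X) ∈ (T : Subgroup X) := fun {x} => by
      rw [← hP', mem_subgroupOf]
    have hmP'' : ∀ {x : ↥K}, x ∈ (P'' : Subgroup ↥K) ↔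
        (x : X) ∈ ((f • T : Sylow 2 X) : Subgroup X) := fun {x} => by rw [← hP'', mem_subgroupOf]
    have hP'P : P' ≠ P := fun e => hTS (heq T S fun x hx => hmemP.1 (e ▸ hmP'.2 hx))
    have hP''P : P'' ≠ P := by
      intro e
      have hfT := heq (f • T) S fun x hx => hmemP.1 (e ▸ hmP''.2 hx)
      refine hTS ?_
      have h1 : f • S = S := Sylow.smul_eq_iff_mem_normalizer.mpr (le_normalizer hf)
      exact smul_left_cancel f (hfT.trans h1.symm)
    obtain ⟨y, hy, hyP⟩ := htr P P'' P' hP''P hP'P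
    set w : X := (y : X) * f with hw
    have hwS : w ∈ (S : Subgroup X) := mul_mem (hmemP.1 hy) hf
    have hwT : w ∈ (T : Subgroup X) := by
      have hsm : w • T = T := by
        refine heq (w • T) T fun x hx => hmP'.1 ?_
        rw [← hyP]
        refine ⟨y⁻¹ * x * y, hmP''.2 ?_, by simp [mul_assoc]⟩
        obtain ⟨t, ht, e⟩ := hx
        refine ⟨t, ht, ?_⟩
        show f * t * f⁻¹ = ((y⁻¹ * x * y : ↥K) : X)
        have e' : w * t * w⁻¹ = (x : X) := e
        rw [Subgroup.coe_mul, Subgroup.coe_mul, Subgroup.coe_inv, ← e', hw]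
        group
      have hp : IsPGroup 2 ↥(zpowers w) := S.isPGroup'.to_le (zpowers_le.2 hwS)
      exact H91.CI.mem_of_mem_normalizer T hp
        (zpowers_le.2 (Sylow.smul_eq_iff_mem_normalizer.mp hsm)) (mem_zpowers _)
    have hwcS : ∀ s ∈ (S : Subgroup X), s * w = w * s := h S T hTS.symm w hwS hwT
    have hwcT : ∀ s ∈ (T : Subgroup X), s * w = w * s := h T S hTS w hwT hwS
    -- `w` centralises all Sylow 2-subgroups of `K`
    have hall : ∀ P₁ : Sylow 2 ↥K, ∀ x ∈ (P₁ : Subgroup ↥K), (x : X) * w = w * x := by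
      intro P₁ x hx
      by_cases e : P₁ = P
      · subst e; exact hwcS _ (hmemP.1 hx)
      · obtain ⟨y₁, hy₁, rfl⟩ := htr P P' P₁ hP'P e
        obtain ⟨t, ht, rfl⟩ := hx
        have c1 : Commute (y₁ : X) w := hwcS _ (hmemP.1 hy₁)
        have c2 : Commute (t : X) w := hwcT _ (hmP'.1 ht)
        show ((y₁ * t * y₁⁻¹ : ↥K) : X) * w = w * _
        simp only [Subgroup.coe_mul, Subgroup.coe_inv]
        exact ((c1.mul_left c2).mul_left c1.inv_left).eq
    have hwK : ∀ x ∈ K, w * x = x * w := by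
      intro x hx
      have htop := centralises_of_conjugates hqs hPna
        (C := (centralizer ({w} : Set X)).subgroupOf K) fun g₁ y₁ hy₁ => by
          rw [mem_subgroupOf, mem_centralizer_singleton_iff]
          exact hall (g₁ • P) _ ⟨y₁, hy₁, rfl⟩
      have hxC : (⟨x, hx⟩ : ↥K) ∈ (centralizer ({w} : Set X)).subgroupOf K := htop ▸ mem_top _
      exact (mem_centralizer_singleton_iff.1 (mem_subgroupOf.1 hxC)).symm
    have hwR : w ∈ Cfsg.pCore 2 X := mem_pCore_of_centralises hO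
      (fun L hL x hx => hwK x (huniq L hL ▸ hx)) fun r hr => pCore_central h hn hr hwS
    rw [show f = (y : X)⁻¹ * w by rw [hw, inv_mul_cancel_left]]
    exact mul_mem (mem_sup_left (inv_mem y.2)) (mem_sup_right hwR)
  refine ⟨K, hKn, hqs.1, hkind, hZ, ⟨⟨fun a b => Subtype.ext ?_⟩⟩, hRK, hSle, ?_⟩
  · exact pCore_central h hn b.2 (Cores.pCore_le_sylow S a.2)
  · exact Odd.of_dvd_nat (Nat.odd_iff.2 (Nat.two_dvd_ne_zero.1 S.not_dvd_index))
      (Subgroup.index_dvd_of_le hSle)

end Cfsg.Agent.H58.CI
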